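import Groth.Agent.DEquiv.K353.Conv
import Groth.Agent.Dcoh.DerPull2
import Groth.Agent.PerfB.FlatPull
import Groth.Agent.PerfC.RpushCoh

/-!
# The structure sheaf of the diagonal as a Fourier–Mukai kernel, and termwise flat pullback of kernels
-/

set_option autoImplicit false

universe u

open CategoryTheory CategoryTheory.Limits AlgebraicGeometry MonoidalCategory

attribute [local instance] HasDerivedCategory.standard

open scoped Groth.Agent.Dcoh.MonCat Groth.Agent.Dcoh.ModD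

namespace K353.Diag

open Groth.Agent OnSub Calc Conv

variable {S X Y : Scheme.{u}}

lemma lpull_id (X : Scheme.{u}) [DCoh.HasLpull (𝟙 X)] : Nonempty (DCoh.Lpull (𝟙 X) ≅ 𝟭 (DCoh.D X)) :=
  ⟨PerfB.BCSch.dPull.{u}.idI X⟩

lemma rpush_id (X : Scheme.{u}) [DCoh.HasRpush (𝟙 X)] : Nonempty (DCoh.Rpush (𝟙 X) ≅ 𝟭 (DCoh.D X)) := by
  have := hasLpull (𝟙 X)
  obtain ⟨e⟩ := lpull_id X
  exact ⟨((PerfB.BCShift.lAdj (𝟙 X)).ofNatIsoLeft e).rightAdjointUniq Adjunction.id⟩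

/-- `p_* (q^* (-) ⊗ O) ≅ id` for identities. -/
lemma fm_id (X : Scheme.{u}) [DCoh.HasLpull (𝟙 X)] [DCoh.HasRpush (𝟙 X)] :
    Nonempty (fm (𝟙 X) (𝟙 X) (𝟙_ (DCoh.D X)) ≅ 𝟭 (DCoh.D X)) := by
  obtain ⟨e⟩ := lpull_id X
  obtain ⟨e'⟩ := rpush_id X
  exact ⟨Functor.isoWhiskerLeft _ (Functor.isoWhiskerRight (rightUnitorNatIso (DCoh.D X)) _ ≪≫
    Functor.leftUnitor _ ≪≫ e') ≪≫ Functor.rightUnitor _ ≪≫ e⟩

/-- `Δ_* O_X` is the derived direct image of the unit. -/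
lemma diagO_iso (a : X ⟶ S) [IsSeparated a] [DCoh.HasRpush (pullback.diagonal a)] :
    Nonempty (FMK.diagO a ≅ (DCoh.Rpush (pullback.diagonal a)).obj (𝟙_ (DCoh.D X))) := by
  obtain ⟨e⟩ := PerfC.RpushCoh.nonempty_closed (pullback.diagonal a) (Coh.structureModule X)
  exact ⟨e.symm ≪≫ (DCoh.Rpush (pullback.diagonal a)).mapIso (Dcoh.DualX.unitIso X)⟩

/-- The Fourier–Mukai functor with kernel `Δ_* O_X` is the identity of `D_QCoh`. -/
theorem phi_diag (a : X ⟶ S) [IsSeparated a] (K : CochainComplex (pullback a a).Modules ℤ)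
    (e : DCoh.toD _ K ≅ FMK.diagO a)
    [DCoh.HasLpull (pullback.fst a a)] [DCoh.HasLTensorCx K] [DCoh.HasRpush (pullback.snd a a)] :
    IsoOn (qc X) (FMK.phi a a K) (𝟭 (DCoh.D X)) := by
  have := hasRpush (pullback.diagonal a)
  have := hasLpull (𝟙 X)
  have := hasRpush (𝟙 X)
  obtain ⟨e1⟩ := diagO_iso a
  obtain ⟨e2⟩ := fm_cx (pullback.fst a a) (pullback.snd a a) K
  obtain ⟨e3⟩ := fm_congr (pullback.fst a a) (pullback.snd a a) (e ≪≫ e1)
  refine (IsoOn.of_iso (e2 ≪≫ e3)).trans (IsoOn.trans ?_ (IsoOn.of_nonempty (fm_id X)))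
  exact fm_push (pullback.diagonal a) _ _ _ _ (pullback.diagonal_fst a) (pullback.diagonal_snd a) _
    Dual.H379.DQMon.isQCohD_unit

/-- The termwise pullback along a flat morphism is the derived one. -/
lemma cxPull_iso (f : X ⟶ Y) [Flat f] [DCoh.HasLpull f] (K : CochainComplex Y.Modules ℤ) :
    Nonempty (DCoh.toD X ((FMK.cxPull f).obj K) ≅ (DCoh.Lpull f).obj (DCoh.toD Y K)) :=
  ⟨(Dcoh.DerPull.lpullFlatQIso f K).symm⟩

end K353.Diag
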