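import Groth.Agent.DEquiv.K353.OnSub
import Groth.Agent.Dual.H379.DQMon
import Groth.Agent.Dual.H306.BCLeft
import Groth.Agent.Fixpt.H12.BcE
import Groth.Agent.S0911
import Groth.Agent.S0922
import Groth.Agent.S0959
import Groth.Agent.S0998
import Groth.Agent.S1054

/-!
# Functor calculus on `D_QCoh`: base change and projection formula as isomorphisms of functors

* `bc`: `Lg^* Rf_* ≅ Rf'_* Lg'^*` on `D_QCoh(O_X)` for a cartesian square with `f` or `g` flat, `f` quasi-compact and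
  quasi-separated;
* `proj_left`: `K ⊗ Rf_* A ≅ Rf_* (Lf^* K ⊗ A)`, natural in `K ∈ D_QCoh(O_Y)`, for `A` fixed;
* `proj_right`: `Rf_* A ⊗ K ≅ Rf_* (A ⊗ Lf^* K)`, natural in `A ∈ D_QCoh(O_X)`, for `K` fixed;
* `lpull_tensor`: `Lf^* (A ⊗ K) ≅ Lf^* A ⊗ Lf^* K`, natural in `A`.
-/

set_option autoImplicit false

universe u

open CategoryTheory CategoryTheory.Limits AlgebraicGeometry MonoidalCategory

attribute [local instance] HasDerivedCategory.standard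

open scoped Groth.Agent.Dcoh.MonCat Groth.Agent.Dcoh.ModD

namespace K353.Calc

open OnSub Groth.Agent Groth.Agent.Dcoh Groth.Agent.Dual.H379 Groth.Agent.PerfC.DTens
open Groth.Agent.PerfB.BCTot Groth.Agent.PerfB.BCTot.Tot Groth.Agent.PerfB.BCSch Groth.Agent.Fixpt.H12

variable {X Y Z : Scheme.{u}}

theorem hasRpush (f : X ⟶ Y) : DCoh.HasRpush f := Groth.Agent.Dcoh.DerSch.hasRpush f

theorem hasLpull (f : X ⟶ Y) : DCoh.HasLpull f := S0959.result f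

/-- The object property `D_QCoh`. -/
abbrev qc (X : Scheme.{u}) : ObjectProperty (DCoh.D X) := DCoh.IsQCohD (X := X)

lemma qc_lpull (f : X ⟶ Y) [DCoh.HasLpull f] (K : DCoh.D Y) (hK : qc Y K) : qc X ((DCoh.Lpull f).obj K) :=
  S1054.result f K hK

lemma qc_rpush (f : X ⟶ Y) [QuasiCompact f] [QuasiSeparated f] [DCoh.HasRpush f] (K : DCoh.D X)
    (hK : qc X K) : qc Y ((DCoh.Rpush f).obj K) :=
  S0998.result f K hK

lemma qc_tensor (K L : DCoh.D X) (hK : qc X K) (hL : qc X L) : qc X (K ⊗ L) :=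
  DQMon.isQCohD_tensor hK hL

/-- Composition of derived pullbacks. -/
lemma lpull_comp (f : X ⟶ Y) (g : Y ⟶ Z) [DCoh.HasLpull f] [DCoh.HasLpull g] (h : X ⟶ Z) [DCoh.HasLpull h]
    (e : f ≫ g = h) : Nonempty (DCoh.Lpull g ⋙ DCoh.Lpull f ≅ DCoh.Lpull h) := by
  subst e
  exact S0911.result f g

/-- Composition of derived direct images. -/
lemma rpush_comp (f : X ⟶ Y) (g : Y ⟶ Z) [DCoh.HasRpush f] [DCoh.HasRpush g] (h : X ⟶ Z) [DCoh.HasRpush h]
    (e : f ≫ g = h) : Nonempty (DCoh.Rpush f ⋙ DCoh.Rpush g ≅ DCoh.Rpush h) := by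
  subst e
  exact S0922.result f g

/-- Two commutative squares of derived pullbacks. -/
lemma lpull_sq {W : Scheme.{u}} (f : X ⟶ Y) (g : Y ⟶ Z) (f' : X ⟶ W) (g' : W ⟶ Z) [DCoh.HasLpull f]
    [DCoh.HasLpull g] [DCoh.HasLpull f'] [DCoh.HasLpull g'] (e : f ≫ g = f' ≫ g') :
    Nonempty (DCoh.Lpull g ⋙ DCoh.Lpull f ≅ DCoh.Lpull g' ⋙ DCoh.Lpull f') := by
  have := hasLpull (f ≫ g)
  obtain ⟨i⟩ := lpull_comp f g (f ≫ g) rfl
  obtain ⟨j⟩ := lpull_comp f' g' (f ≫ g) e.symm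
  exact ⟨i ≪≫ j.symm⟩

lemma rpush_sq {W : Scheme.{u}} (f : X ⟶ Y) (g : Y ⟶ Z) (f' : X ⟶ W) (g' : W ⟶ Z) [DCoh.HasRpush f]
    [DCoh.HasRpush g] [DCoh.HasRpush f'] [DCoh.HasRpush g'] (e : f ≫ g = f' ≫ g') :
    Nonempty (DCoh.Rpush f ⋙ DCoh.Rpush g ≅ DCoh.Rpush f' ⋙ DCoh.Rpush g') := by
  have := hasRpush (f ≫ g)
  obtain ⟨i⟩ := rpush_comp f g (f ≫ g) rfl
  obtain ⟨j⟩ := rpush_comp f' g' (f ≫ g) e.symm
  exact ⟨i ≪≫ j.symm⟩

/-- **Base change.** `Lg^* Rf_* ≅ Rf'_* Lg'^*` on `D_QCoh(O_X)`. -/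
theorem bc {X X' S S' : Scheme.{u}} {f : X ⟶ S} {f' : X' ⟶ S'} {g : S' ⟶ S} {g' : X' ⟶ X}
    [QuasiCompact f] [QuasiSeparated f] (hflat : Flat f ∨ Flat g) (sq : IsPullback g' f' f g)
    [i1 : DCoh.HasRpush f] [i2 : DCoh.HasRpush f'] [i3 : DCoh.HasLpull g] [i4 : DCoh.HasLpull g'] :
    IsoOn (qc X) (DCoh.Rpush f ⋙ DCoh.Lpull g) (DCoh.Lpull g' ⋙ DCoh.Rpush f') := by
  let adj : dPull.{u}.pull f ⊣ DCoh.Rpush f := PerfB.BCShift.lAdj f
  let adj' : dPull.{u}.pull f' ⊣ DCoh.Rpush f' := PerfB.BCShift.lAdj f'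
  refine IsoOn.of_app (fun K => BcE.bcm adj adj' sq.w K) (fun K L φ _ _ => BcE.bcm_nat adj adj' sq.w φ)
    (fun K hK => ?_)
  exact BcE.isIso_bcm adj adj' sq.w K (Dual.H306.BCLeft.bc_tor hflat sq K hK)

/-- The braiding `A ⊗ K ≅ K ⊗ A`, natural in `A`. -/
lemma braid (K : DCoh.D X) : Nonempty (tensorRight K ≅ tensorLeft K) := by
  obtain ⟨e1⟩ := PerfDual.nonempty_flipIso K
  obtain ⟨e2⟩ := PerfDual.nonempty_objIso K
  exact ⟨e1.symm ≪≫ (PerfC.LpullTens.symmIso X).app K ≪≫ e2⟩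

/-- **Projection formula**, natural in the object on the base. -/
theorem proj_left (f : X ⟶ Y) [QuasiCompact f] [QuasiSeparated f] [DCoh.HasRpush f] [DCoh.HasLpull f]
    (A : DCoh.D X) (hA : qc X A) :
    IsoOn (qc Y) (tensorRight ((DCoh.Rpush f).obj A)) (DCoh.Lpull f ⋙ tensorRight A ⋙ DCoh.Rpush f) := by
  let := DQMon.lpullMon f
  exact IsoOn.of_nat (ModVia.projNat (DCoh.Lpull f) (DerPull.lpullAdj f) A)
    (fun K hK => DQMon.isIso_proj f K hK A hA)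

/-- **Projection formula**, natural in the object upstairs. -/
theorem proj_right' (f : X ⟶ Y) [QuasiCompact f] [QuasiSeparated f] [DCoh.HasRpush f] [DCoh.HasLpull f]
    (K : DCoh.D Y) (hK : qc Y K) :
    IsoOn (qc X) (DCoh.Rpush f ⋙ tensorLeft K) (tensorLeft ((DCoh.Lpull f).obj K) ⋙ DCoh.Rpush f) := by
  let := DQMon.lpullMon f
  exact IsoOn.of_app (fun A => ModVia.proj (DCoh.Lpull f) (DerPull.lpullAdj f) K A)
    (fun A B φ _ _ => ModVia.proj_naturality_right (DCoh.Lpull f) (DerPull.lpullAdj f) K φ)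
    (fun A hA => DQMon.isIso_proj f K hK A hA)

theorem proj_right (f : X ⟶ Y) [QuasiCompact f] [QuasiSeparated f] [DCoh.HasRpush f] [DCoh.HasLpull f]
    (K : DCoh.D Y) (hK : qc Y K) :
    IsoOn (qc X) (DCoh.Rpush f ⋙ tensorRight K) (tensorRight ((DCoh.Lpull f).obj K) ⋙ DCoh.Rpush f) := by
  obtain ⟨e⟩ := braid K
  obtain ⟨e'⟩ := braid ((DCoh.Lpull f).obj K)
  exact (proj_right' f K hK).congr (Functor.isoWhiskerLeft _ e.symm) (Functor.isoWhiskerRight e'.symm _)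

/-- `Lf^* (A ⊗ K) ≅ Lf^* A ⊗ Lf^* K`, natural in `A`. -/
theorem lpull_tensor (f : X ⟶ Y) [DCoh.HasLpull f] (K : DCoh.D Y) :
    Nonempty (tensorRight K ⋙ DCoh.Lpull f ≅ DCoh.Lpull f ⋙ tensorRight ((DCoh.Lpull f).obj K)) := by
  let := DQMon.lpullMon f
  exact ⟨NatIso.ofComponents (fun A => (Functor.Monoidal.μIso (DCoh.Lpull f) A K).symm)
    (fun {A B} φ => (Functor.OplaxMonoidal.δ_natural_left (DCoh.Lpull f) φ K).symm)⟩

/-- The derived tensor product with a complex is the tensor product of the monoidal category `D(O_X)`. -/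
theorem ltensorCx (E : CochainComplex X.Modules ℤ) [DCoh.HasLTensorCx E] :
    Nonempty (DCoh.LTensorCx E ≅ tensorRight (DCoh.toD X E)) := ⟨ModTens.LTensorCxIso E⟩

theorem tensorRight_congr {K L : DCoh.D X} (e : K ≅ L) : Nonempty (tensorRight K ≅ tensorRight L) :=
  ⟨(tensoringRight (DCoh.D X)).mapIso e⟩

theorem tensorRight_comp (K L : DCoh.D X) :
    Nonempty (tensorRight K ⋙ tensorRight L ≅ tensorRight (K ⊗ L)) :=
  ⟨(tensorRightTensor K L).symm⟩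

end K353.Calc
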