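import Groth.Agent.DEquiv.K353.Calc
import Groth.Prelude.Def_DualFM

/-!
# Composition and base change of Fourier–Mukai functors

* `phi_iso`: `Φ_K ≅ Lpr₁^* ⋙ (- ⊗ K) ⋙ Rpr₂_*`, in terms of the monoidal structure;
* `phi_comp`: `Φ_M ∘ Φ_K ≅ Φ_N` on `D_QCoh`;
* `phi_bc`: `Φ_{K'} ∘ Lπ^* ≅ Lϖ^* ∘ Φ_K` on `D_QCoh`.
-/

set_option autoImplicit false

universe u

open CategoryTheory CategoryTheory.Limits AlgebraicGeometry MonoidalCategory

attribute [local instance] HasDerivedCategory.standard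

open scoped Groth.Agent.Dcoh.MonCat Groth.Agent.Dcoh.ModD

namespace K353.Conv

open OnSub Calc

/-- The functor `p_* (q^* (-) ⊗ K)`. -/
noncomputable abbrev fm {X Y W : Scheme.{u}} (p : W ⟶ X) (q : W ⟶ Y) [DCoh.HasLpull p] [DCoh.HasRpush q]
    (K : DCoh.D W) : DCoh.D X ⥤ DCoh.D Y :=
  DCoh.Lpull p ⋙ tensorRight K ⋙ DCoh.Rpush q

variable {X Y W : Scheme.{u}}

lemma fm_congr (p : W ⟶ X) (q : W ⟶ Y) [DCoh.HasLpull p] [DCoh.HasRpush q] {K L : DCoh.D W} (e : K ≅ L) :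
    Nonempty (fm p q K ≅ fm p q L) := by
  obtain ⟨i⟩ := tensorRight_congr e
  exact ⟨Functor.isoWhiskerLeft _ (Functor.isoWhiskerRight i _)⟩

lemma fm_cx (p : W ⟶ X) (q : W ⟶ Y) [DCoh.HasLpull p] [DCoh.HasRpush q] (K : CochainComplex W.Modules ℤ)
    [DCoh.HasLTensorCx K] :
    Nonempty ((DCoh.Lpull p ⋙ DCoh.LTensorCx K ⋙ DCoh.Rpush q) ≅ fm p q (DCoh.toD W K)) := by
  obtain ⟨i⟩ := ltensorCx K
  exact ⟨Functor.isoWhiskerLeft _ (Functor.isoWhiskerRight i _)⟩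

/-- The kernel can be pushed forward: `Φ_{Rr_* C} = Φ_C` for `r : T ⟶ W`. -/
theorem fm_push {T : Scheme.{u}} (r : T ⟶ W) (p : W ⟶ X) (q : W ⟶ Y) (p' : T ⟶ X) (q' : T ⟶ Y)
    (hp : r ≫ p = p') (hq : r ≫ q = q') [QuasiCompact r] [QuasiSeparated r]
    [DCoh.HasRpush r] [DCoh.HasLpull p] [DCoh.HasRpush q] [DCoh.HasLpull p'] [DCoh.HasRpush q']
    (C : DCoh.D T) (hC : qc T C) :
    IsoOn (qc X) (fm p q ((DCoh.Rpush r).obj C)) (fm p' q' C) := by
  have := hasLpull r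
  obtain ⟨i⟩ := lpull_comp r p p' hp
  obtain ⟨j⟩ := rpush_comp r q q' hq
  have h1 : IsoOn (qc X) (DCoh.Lpull p ⋙ (tensorRight ((DCoh.Rpush r).obj C) ⋙ DCoh.Rpush q))
      (DCoh.Lpull p ⋙ ((DCoh.Lpull r ⋙ tensorRight C ⋙ DCoh.Rpush r) ⋙ DCoh.Rpush q)) :=
    ((proj_left r C hC).whiskerRight (DCoh.Rpush q)).whiskerLeft (DCoh.Lpull p) (qc_lpull p)
  refine h1.trans (IsoOn.of_iso ?_)
  exact Functor.isoWhiskerRight i (tensorRight C ⋙ DCoh.Rpush r ⋙ DCoh.Rpush q) ≪≫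
    Functor.isoWhiskerLeft (DCoh.Lpull p' ⋙ tensorRight C) j

/-- Composition of Fourier–Mukai functors through a cartesian square `T = W ×_Y W'`. -/
theorem fm_comp {Z W' T : Scheme.{u}} {p : W ⟶ X} {q : W ⟶ Y} {p' : W' ⟶ Y} {q' : W' ⟶ Z}
    {t : T ⟶ W} {t' : T ⟶ W'} (sq : IsPullback t t' q p') (hflat : Flat q ∨ Flat p')
    [QuasiCompact q] [QuasiSeparated q] 
    [DCoh.HasLpull p] [DCoh.HasRpush q] [DCoh.HasLpull p'] [DCoh.HasRpush q']
    [DCoh.HasLpull t] [DCoh.HasLpull t'] (u : T ⟶ X) (v : T ⟶ Z) (hu : t ≫ p = u) (hv : t' ≫ q' = v)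
    [DCoh.HasLpull u] [DCoh.HasRpush v]
    (K : DCoh.D W) (M : DCoh.D W') (hK : qc W K) (hM : qc W' M) :
    IsoOn (qc X) (fm p q K ⋙ fm p' q' M)
      (fm u v ((DCoh.Lpull t).obj K ⊗ (DCoh.Lpull t').obj M)) := by
  have := hasRpush t'
  have hqc : QuasiCompact t' := MorphismProperty.of_isPullback sq inferInstance
  have hqs : QuasiSeparated t' := MorphismProperty.of_isPullback sq inferInstance
  obtain ⟨i⟩ := lpull_comp t p u hu
  obtain ⟨j⟩ := rpush_comp t' q' v hv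
  obtain ⟨k⟩ := lpull_tensor t K
  obtain ⟨l⟩ := tensorRight_comp ((DCoh.Lpull t).obj K) ((DCoh.Lpull t').obj M)
  -- base change
  have h1 : IsoOn (qc W) (DCoh.Rpush q ⋙ DCoh.Lpull p') (DCoh.Lpull t ⋙ DCoh.Rpush t') := bc hflat sq
  have h2 : IsoOn (qc X) ((DCoh.Lpull p ⋙ tensorRight K) ⋙
      ((DCoh.Rpush q ⋙ DCoh.Lpull p') ⋙ (tensorRight M ⋙ DCoh.Rpush q')))
      ((DCoh.Lpull p ⋙ tensorRight K) ⋙
      ((DCoh.Lpull t ⋙ DCoh.Rpush t') ⋙ (tensorRight M ⋙ DCoh.Rpush q'))) :=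
    (h1.whiskerRight (tensorRight M ⋙ DCoh.Rpush q')).whiskerLeft (DCoh.Lpull p ⋙ tensorRight K)
      (fun A hA => qc_tensor _ _ (qc_lpull p A hA) hK)
  -- projection formula
  have h3 : IsoOn (qc T) (DCoh.Rpush t' ⋙ tensorRight M) (tensorRight ((DCoh.Lpull t').obj M) ⋙ DCoh.Rpush t') :=
    proj_right t' M hM
  have h4 : IsoOn (qc X) ((DCoh.Lpull p ⋙ tensorRight K ⋙ DCoh.Lpull t) ⋙
      ((DCoh.Rpush t' ⋙ tensorRight M) ⋙ DCoh.Rpush q'))
      ((DCoh.Lpull p ⋙ tensorRight K ⋙ DCoh.Lpull t) ⋙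
      ((tensorRight ((DCoh.Lpull t').obj M) ⋙ DCoh.Rpush t') ⋙ DCoh.Rpush q')) :=
    (h3.whiskerRight (DCoh.Rpush q')).whiskerLeft (DCoh.Lpull p ⋙ tensorRight K ⋙ DCoh.Lpull t)
      (fun A hA => qc_lpull t _ (qc_tensor _ _ (qc_lpull p A hA) hK))
  refine IsoOn.trans h2 (IsoOn.trans h4 (IsoOn.of_iso ?_))
  exact Functor.isoWhiskerLeft (DCoh.Lpull p) (Functor.isoWhiskerRight k
      (tensorRight ((DCoh.Lpull t').obj M) ⋙ DCoh.Rpush t' ⋙ DCoh.Rpush q')) ≪≫
    Functor.isoWhiskerRight i (tensorRight ((DCoh.Lpull t).obj K) ⋙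
      tensorRight ((DCoh.Lpull t').obj M) ⋙ DCoh.Rpush t' ⋙ DCoh.Rpush q') ≪≫
    Functor.isoWhiskerLeft (DCoh.Lpull u) (Functor.isoWhiskerRight l (DCoh.Rpush t' ⋙ DCoh.Rpush q')) ≪≫
    Functor.isoWhiskerLeft (DCoh.Lpull u ⋙ tensorRight ((DCoh.Lpull t).obj K ⊗ (DCoh.Lpull t').obj M)) j

/-- Base change of Fourier–Mukai functors. -/
theorem fm_bc {X' Y' W' : Scheme.{u}} {p : W ⟶ X} {q : W ⟶ Y} {p' : W' ⟶ X'} {q' : W' ⟶ Y'}
    {π : X' ⟶ X} {ϖ : Y' ⟶ Y} {h : W' ⟶ W} (w : h ≫ p = p' ≫ π) (sq : IsPullback h q' q ϖ)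
    (hflat : Flat q ∨ Flat ϖ) [QuasiCompact q] [QuasiSeparated q]
    [DCoh.HasLpull p] [DCoh.HasRpush q] [DCoh.HasLpull p'] [DCoh.HasRpush q']
    [DCoh.HasLpull π] [DCoh.HasLpull ϖ] [DCoh.HasLpull h] (K : DCoh.D W) (hK : qc W K) :
    IsoOn (qc X) (DCoh.Lpull π ⋙ fm p' q' ((DCoh.Lpull h).obj K)) (fm p q K ⋙ DCoh.Lpull ϖ) := by
  obtain ⟨i⟩ := lpull_sq h p p' π w
  obtain ⟨k⟩ := lpull_tensor h K
  have h1 : IsoOn (qc W) (DCoh.Rpush q ⋙ DCoh.Lpull ϖ) (DCoh.Lpull h ⋙ DCoh.Rpush q') := bc hflat sq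
  have h2 : IsoOn (qc X) ((DCoh.Lpull p ⋙ tensorRight K) ⋙ (DCoh.Rpush q ⋙ DCoh.Lpull ϖ))
      ((DCoh.Lpull p ⋙ tensorRight K) ⋙ (DCoh.Lpull h ⋙ DCoh.Rpush q')) :=
    h1.whiskerLeft (DCoh.Lpull p ⋙ tensorRight K) (fun A hA => qc_tensor _ _ (qc_lpull p A hA) hK)
  refine IsoOn.symm (IsoOn.trans h2 (IsoOn.of_iso ?_))
  exact Functor.isoWhiskerLeft (DCoh.Lpull p) (Functor.isoWhiskerRight k (DCoh.Rpush q')) ≪≫
    Functor.isoWhiskerRight i (tensorRight ((DCoh.Lpull h).obj K) ⋙ DCoh.Rpush q')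

section phi

variable {S X Y Z : Scheme.{u}} (a : X ⟶ S) (b : Y ⟶ S) (c : Z ⟶ S)

lemma p13_isPullback : IsPullback (FMK.p13 a b c) (FMK.p12 a b c) (pullback.fst a c) (pullback.fst a b) := by
  have s1 : IsPullback (FMK.p23 a b c) (FMK.p12 a b c) (pullback.fst b c) (pullback.snd a b) :=
    (IsPullback.of_hasPullback _ _).flip
  have s2 : IsPullback (pullback.snd b c) (pullback.fst b c) c b := (IsPullback.of_hasPullback b c).flip
  have s3 : IsPullback (pullback.snd a c) (pullback.fst a c) c a := (IsPullback.of_hasPullback a c).flip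
  refine IsPullback.of_right ?_ (FMK.p13_fst a b c) s3
  have e : FMK.p13 a b c ≫ pullback.snd a c = FMK.p23 a b c ≫ pullback.snd b c := FMK.p13_snd a b c
  have e' : pullback.fst a b ≫ a = pullback.snd a b ≫ b := pullback.condition
  rw [e, e']
  exact s1.paste_horiz s2

/-- Composition of Fourier–Mukai functors. -/
theorem phi_comp [QuasiCompact a] [QuasiSeparated a] [QuasiCompact b] [QuasiSeparated b]
    (hflat : Flat a ∨ Flat c)
    (K : CochainComplex (pullback a b).Modules ℤ) (M : CochainComplex (pullback b c).Modules ℤ)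
    (hK : DCoh.IsQCohD (DCoh.toD _ K)) (hM : DCoh.IsQCohD (DCoh.toD _ M))
    [DCoh.HasLpull (pullback.fst a b)] [DCoh.HasLTensorCx K] [DCoh.HasRpush (pullback.snd a b)]
    [DCoh.HasLpull (pullback.fst b c)] [DCoh.HasLTensorCx M] [DCoh.HasRpush (pullback.snd b c)]
    [DCoh.HasLpull (FMK.p12 a b c)] [DCoh.HasLpull (FMK.p23 a b c)] [DCoh.HasRpush (FMK.p13 a b c)]
    [DCoh.HasLpull (pullback.fst a c)] [DCoh.HasRpush (pullback.snd a c)]
    (L : CochainComplex (FMK.T a b c).Modules ℤ) [DCoh.HasLTensorCx L]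
    (eL : DCoh.toD _ L ≅ (DCoh.Lpull (FMK.p23 a b c)).obj (DCoh.toD _ M))
    (N : CochainComplex (pullback a c).Modules ℤ) [DCoh.HasLTensorCx N]
    (eN : DCoh.toD _ N ≅ FMK.conv a b c K L) :
    IsoOn (qc X) (FMK.phi a c N) (FMK.phi a b K ⋙ FMK.phi b c M) := by
  have := hasLpull (FMK.p12 a b c ≫ pullback.fst a b)
  have := hasRpush (FMK.p23 a b c ≫ pullback.snd b c)
  have q1 : QuasiCompact (FMK.p13 a b c) := MorphismProperty.of_isPullback (p13_isPullback a b c).flip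
    (inferInstance : QuasiCompact (pullback.fst a b))
  have q2 : QuasiSeparated (FMK.p13 a b c) := MorphismProperty.of_isPullback (p13_isPullback a b c).flip
    (inferInstance : QuasiSeparated (pullback.fst a b))
  -- the left hand side
  obtain ⟨e1⟩ := fm_cx (pullback.fst a c) (pullback.snd a c) N
  obtain ⟨e2⟩ := ltensorCx L
  let C := (DCoh.Lpull (FMK.p12 a b c)).obj (DCoh.toD _ K) ⊗ (DCoh.Lpull (FMK.p23 a b c)).obj (DCoh.toD _ M)
  have hC : qc _ C := qc_tensor _ _ (qc_lpull _ _ hK) (qc_lpull _ _ hM)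
  let e3 : DCoh.toD _ N ≅ (DCoh.Rpush (FMK.p13 a b c)).obj C :=
    eN ≪≫ (DCoh.Rpush (FMK.p13 a b c)).mapIso (e2.app _ ≪≫
      whiskerLeftIso ((DCoh.Lpull (FMK.p12 a b c)).obj (DCoh.toD _ K)) eL)
  obtain ⟨e4⟩ := fm_congr (pullback.fst a c) (pullback.snd a c) e3
  have h1 : IsoOn (qc X) (FMK.phi a c N) (fm (FMK.p12 a b c ≫ pullback.fst a b)
      (FMK.p23 a b c ≫ pullback.snd b c) C) :=
    (IsoOn.of_iso (e1 ≪≫ e4)).trans (fm_push (FMK.p13 a b c) _ _ _ _ (FMK.p13_fst a b c) (FMK.p13_snd a b c) C hC)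
  -- the right hand side
  obtain ⟨f1⟩ := fm_cx (pullback.fst a b) (pullback.snd a b) K
  obtain ⟨f2⟩ := fm_cx (pullback.fst b c) (pullback.snd b c) M
  have sq : IsPullback (FMK.p12 a b c) (FMK.p23 a b c) (pullback.snd a b) (pullback.fst b c) :=
    IsPullback.of_hasPullback _ _
  have hfl : Flat (pullback.snd a b) ∨ Flat (pullback.fst b c) := by
    rcases hflat with h | h
    · exact Or.inl inferInstance
    · exact Or.inr inferInstance
  have h2 : IsoOn (qc X) (FMK.phi a b K ⋙ FMK.phi b c M) (fm (FMK.p12 a b c ≫ pullback.fst a b)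
      (FMK.p23 a b c ≫ pullback.snd b c) C) :=
    (IsoOn.of_iso (Functor.isoWhiskerRight f1 _ ≪≫ Functor.isoWhiskerLeft _ f2)).trans
      (fm_comp sq hfl _ _ rfl rfl _ _ hK hM)
  exact h1.trans h2.symm

/-- Base change of Fourier–Mukai functors. -/
theorem phi_bc {S' : Scheme.{u}} (g : S' ⟶ S)
    [QuasiCompact a] [QuasiSeparated a] [QuasiCompact b] [QuasiSeparated b]
    (hflat : Flat g ∨ Flat a)
    (K : CochainComplex (pullback a b).Modules ℤ) (hK : DCoh.IsQCohD (DCoh.toD _ K))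
    [DCoh.HasLpull (pullback.fst a b)] [DCoh.HasLTensorCx K] [DCoh.HasRpush (pullback.snd a b)]
    [DCoh.HasLpull (pullback.fst a g)] [DCoh.HasLpull (pullback.fst b g)]
    [DCoh.HasLpull (pullback.map (pullback.snd a g) (pullback.snd b g) a b
      (pullback.fst a g) (pullback.fst b g) g (pullback.condition).symm (pullback.condition).symm)]
    (K' : CochainComplex (pullback (pullback.snd a g) (pullback.snd b g)).Modules ℤ)
    (eK' : DCoh.toD _ K' ≅ (DCoh.Lpull (pullback.map (pullback.snd a g) (pullback.snd b g) a b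
      (pullback.fst a g) (pullback.fst b g) g (pullback.condition).symm (pullback.condition).symm)).obj (DCoh.toD _ K))
    [DCoh.HasLpull (pullback.fst (pullback.snd a g) (pullback.snd b g))] [DCoh.HasLTensorCx K']
    [DCoh.HasRpush (pullback.snd (pullback.snd a g) (pullback.snd b g))] :
    IsoOn (qc X) (DCoh.Lpull (pullback.fst a g) ⋙ FMK.phi (pullback.snd a g) (pullback.snd b g) K')
      (FMK.phi a b K ⋙ DCoh.Lpull (pullback.fst b g)) := by
  let h := pullback.map (pullback.snd a g) (pullback.snd b g) a b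
      (pullback.fst a g) (pullback.fst b g) g (pullback.condition).symm (pullback.condition).symm
  have w : h ≫ pullback.fst a b = pullback.fst (pullback.snd a g) (pullback.snd b g) ≫ pullback.fst a g :=
    pullback.lift_fst _ _ _
  have w2 : h ≫ pullback.snd a b = pullback.snd (pullback.snd a g) (pullback.snd b g) ≫ pullback.fst b g :=
    pullback.lift_snd _ _ _
  have sq : IsPullback h (pullback.snd (pullback.snd a g) (pullback.snd b g)) (pullback.snd a b)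
      (pullback.fst b g) := by
    have s1 : IsPullback (pullback.fst (pullback.snd a g) (pullback.snd b g) ≫ pullback.fst a g)
        (pullback.snd (pullback.snd a g) (pullback.snd b g)) a (pullback.snd b g ≫ g) :=
      (IsPullback.of_hasPullback (pullback.snd a g) (pullback.snd b g)).flip.paste_vert
        (IsPullback.of_hasPullback a g).flip |>.flip
    have s2 : IsPullback (h ≫ pullback.fst a b)
        (pullback.snd (pullback.snd a g) (pullback.snd b g)) a (pullback.fst b g ≫ b) := by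
      rw [w, pullback.condition]
      exact s1
    exact IsPullback.of_bot s2.flip w2.symm (IsPullback.of_hasPullback a b).flip |>.flip
  have hfl : Flat (pullback.snd a b) ∨ Flat (pullback.fst b g) := by
    rcases hflat with h | h
    · exact Or.inr inferInstance
    · exact Or.inl inferInstance
  obtain ⟨e1⟩ := fm_cx (pullback.fst a b) (pullback.snd a b) K
  obtain ⟨e2⟩ := fm_cx (pullback.fst (pullback.snd a g) (pullback.snd b g))
    (pullback.snd (pullback.snd a g) (pullback.snd b g)) K'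
  obtain ⟨e3⟩ := fm_congr (pullback.fst (pullback.snd a g) (pullback.snd b g))
    (pullback.snd (pullback.snd a g) (pullback.snd b g)) eK'
  exact (fm_bc w sq hfl (DCoh.toD _ K) hK).congr (Functor.isoWhiskerLeft _ (e2 ≪≫ e3).symm)
    (Functor.isoWhiskerRight e1.symm _)

end phi

end K353.Conv
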