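import Groth.Agent.DEquiv.K353.OnSub

/-!
# Adjunctions between functors on full subcategories

`AdjOn P Q F G`: natural bijections `(F X ⟶ Y) ≃ (X ⟶ G Y)` for `X` with `P` and `Y` with `Q`.
-/

set_option autoImplicit false

open CategoryTheory

namespace K353.ASub

open OnSub

universe v₁ v₂ v₃ u₁ u₂ u₃

variable {C : Type u₁} [Category.{v₁} C] {D : Type u₂} [Category.{v₂} D] {E : Type u₃} [Category.{v₃} E]

/-- `F` is left adjoint to `G` on the objects satisfying `P`, `Q`. -/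
structure AdjOn (P : ObjectProperty C) (Q : ObjectProperty D) (F : C ⥤ D) (G : D ⥤ C) where
  /-- the bijections -/
  e (X : C) (Y : D) (hX : P X) (hY : Q Y) : (F.obj X ⟶ Y) ≃ (X ⟶ G.obj Y)
  nat_left {X X' : C} {Y : D} (hX : P X) (hX' : P X') (hY : Q Y) (u : X' ⟶ X) (g : F.obj X ⟶ Y) :
    e X' Y hX' hY (F.map u ≫ g) = u ≫ e X Y hX hY g
  nat_right {X : C} {Y Y' : D} (hX : P X) (hY : Q Y) (hY' : Q Y') (g : F.obj X ⟶ Y) (v : Y ⟶ Y') :
    e X Y' hX hY' (g ≫ v) = e X Y hX hY g ≫ G.map v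

namespace AdjOn

variable {P : ObjectProperty C} {Q : ObjectProperty D} {F : C ⥤ D} {G : D ⥤ C}

/-- An adjunction gives an adjunction on full subcategories. -/
def ofAdj (adj : F ⊣ G) (P : ObjectProperty C) (Q : ObjectProperty D) : AdjOn P Q F G where
  e X Y _ _ := adj.homEquiv X Y
  nat_left _ _ _ u g := adj.homEquiv_naturality_left u g
  nat_right _ _ _ g v := adj.homEquiv_naturality_right g v

/-- Restriction to smaller subcategories. -/
def mono (h : AdjOn P Q F G) {P' : ObjectProperty C} {Q' : ObjectProperty D} (hP : ∀ X, P' X → P X)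
    (hQ : ∀ Y, Q' Y → Q Y) : AdjOn P' Q' F G where
  e X Y hX hY := h.e X Y (hP X hX) (hQ Y hY)
  nat_left _ _ _ u g := h.nat_left _ _ _ u g
  nat_right _ _ _ g v := h.nat_right _ _ _ g v

/-- Composition. -/
def comp {R : ObjectProperty E} {F' : D ⥤ E} {G' : E ⥤ D} (h : AdjOn P Q F G) (h' : AdjOn Q R F' G')
    (hF : ∀ X, P X → Q (F.obj X)) (hG : ∀ Z, R Z → Q (G'.obj Z)) : AdjOn P R (F ⋙ F') (G' ⋙ G) where
  e X Z hX hZ := (h'.e (F.obj X) Z (hF X hX) hZ).trans (h.e X (G'.obj Z) hX (hG Z hZ))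
  nat_left {X X' Z} hX hX' hZ u g := by
    simp only [Functor.comp_map, Equiv.trans_apply]
    rw [h'.nat_left (hF _ hX) (hF _ hX') hZ]
    exact h.nat_left _ _ _ _ _
  nat_right {X Z Z'} hX hZ hZ' g v := by
    simp only [Functor.comp_map, Equiv.trans_apply]
    rw [h'.nat_right (hF _ hX) hZ hZ']
    exact h.nat_right _ _ _ _ _

/-- Replace the left adjoint by an isomorphic functor. -/
def congrLeft (h : AdjOn P Q F G) {F' : C ⥤ D} (i : P.ι ⋙ F ≅ P.ι ⋙ F') : AdjOn P Q F' G where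
  e X Y hX hY := ((i.app ⟨X, hX⟩).homFromEquiv (Z := Y)).symm.trans (h.e X Y hX hY)
  nat_left {X X' Y} hX hX' hY u g := by
    have hn := i.hom.naturality (X := (⟨X', hX'⟩ : P.FullSubcategory)) (Y := ⟨X, hX⟩) (ObjectProperty.homMk u)
    simp only [Functor.comp_obj, ObjectProperty.ι_obj, Functor.comp_map] at hn
    simp only [Equiv.trans_apply, Iso.homFromEquiv_symm_apply, Functor.comp_obj, ObjectProperty.ι_obj, Iso.app_hom]
    rw [← h.nat_left hX hX' hY]
    congr 1
    rw [← Category.assoc, ← Category.assoc]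
    exact congrArg (· ≫ g) hn.symm
  nat_right {X Y Y'} hX hY hY' g v := by
    simp only [Equiv.trans_apply, Iso.homFromEquiv_symm_apply, Functor.comp_obj, ObjectProperty.ι_obj, Iso.app_hom]
    rw [← Category.assoc, h.nat_right hX hY hY']

/-- Replace the right adjoint by an isomorphic functor. -/
def congrRight (h : AdjOn P Q F G) {G' : D ⥤ C} (i : Q.ι ⋙ G ≅ Q.ι ⋙ G') : AdjOn P Q F G' where
  e X Y hX hY := (h.e X Y hX hY).trans ((i.app ⟨Y, hY⟩).homToEquiv (Z := X))
  nat_left {X X' Y} hX hX' hY u g := by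
    simp only [Equiv.trans_apply, Iso.homToEquiv_apply, Functor.comp_obj, ObjectProperty.ι_obj, Iso.app_hom]
    rw [h.nat_left hX hX' hY, Category.assoc]
  nat_right {X Y Y'} hX hY hY' g v := by
    have hn := i.hom.naturality (X := (⟨Y, hY⟩ : Q.FullSubcategory)) (Y := ⟨Y', hY'⟩) (ObjectProperty.homMk v)
    simp only [Functor.comp_obj, ObjectProperty.ι_obj, Functor.comp_map] at hn
    simp only [Equiv.trans_apply, Iso.homToEquiv_apply, Functor.comp_obj, ObjectProperty.ι_obj, Iso.app_hom]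
    rw [h.nat_right hX hY hY', Category.assoc, Category.assoc]
    exact congrArg (h.e X Y hX hY g ≫ ·) hn

/-- The adjunction between the lifted functors. -/
def lift (h : AdjOn P Q F G) (hF : ∀ X : P.FullSubcategory, Q (F.obj X.obj))
    (hG : ∀ Y : Q.FullSubcategory, P (G.obj Y.obj)) : Q.lift (P.ι ⋙ F) hF ⊣ P.lift (Q.ι ⋙ G) hG :=
  Adjunction.mkOfHomEquiv
    { homEquiv := fun X Y =>
        { toFun := fun g => ObjectProperty.homMk (h.e X.obj Y.obj X.property Y.property g.hom)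
          invFun := fun g => ObjectProperty.homMk ((h.e X.obj Y.obj X.property Y.property).symm g.hom)
          left_inv := fun g => by
            ext
            exact (h.e X.obj Y.obj X.property Y.property).symm_apply_apply _
          right_inv := fun g => by
            ext
            exact (h.e X.obj Y.obj X.property Y.property).apply_symm_apply _ }
      homEquiv_naturality_left_symm := fun {X' X Y} f g => by
        ext
        apply (h.e X'.obj Y.obj X'.property Y.property).injective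
        refine ((h.e X'.obj Y.obj X'.property Y.property).apply_symm_apply _).trans ?_
        refine Eq.trans ?_ (h.nat_left X.property X'.property Y.property f.hom
          ((h.e X.obj Y.obj X.property Y.property).symm g.hom)).symm
        rw [Equiv.apply_symm_apply]
        rfl
      homEquiv_naturality_right := fun {X Y Y'} f g => by
        ext
        exact h.nat_right X.property Y.property Y'.property f.hom g.hom }

end AdjOn

/-- Construction from a natural family of universal morphisms. -/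
noncomputable def ofCounit {P : ObjectProperty C} {Q : ObjectProperty D} {F : C ⥤ D} {G : D ⥤ C}
    (ε : ∀ Y : D, Q Y → (F.obj (G.obj Y) ⟶ Y))
    (nat : ∀ (Y Y' : D) (hY : Q Y) (hY' : Q Y') (v : Y ⟶ Y'), F.map (G.map v) ≫ ε Y' hY' = ε Y hY ≫ v)
    (bij : ∀ (X : C) (Y : D) (_ : P X) (hY : Q Y), Function.Bijective (fun g : X ⟶ G.obj Y => F.map g ≫ ε Y hY)) :
    AdjOn P Q F G where
  e X Y hX hY := (Equiv.ofBijective _ (bij X Y hX hY)).symm
  nat_left {X X' Y} hX hX' hY u g := by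
    apply (bij X' Y hX' hY).1
    have h1 := (Equiv.ofBijective _ (bij X' Y hX' hY)).apply_symm_apply (F.map u ≫ g)
    have h2 := (Equiv.ofBijective _ (bij X Y hX hY)).apply_symm_apply g
    simp only [Equiv.ofBijective_apply] at h1 h2
    dsimp only
    rw [h1, Functor.map_comp, Category.assoc, h2]
  nat_right {X Y Y'} hX hY hY' g v := by
    apply (bij X Y' hX hY').1
    have h1 := (Equiv.ofBijective _ (bij X Y' hX hY')).apply_symm_apply (g ≫ v)
    have h2 := (Equiv.ofBijective _ (bij X Y hX hY)).apply_symm_apply g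
    simp only [Equiv.ofBijective_apply] at h1 h2
    dsimp only
    rw [h1, Functor.map_comp, Category.assoc, nat Y Y' hY hY' v, reassoc_of% h2]

/-- An adjunction between full subcategories gives an `AdjOn`. -/
def ofLift {P : ObjectProperty C} {Q : ObjectProperty D} {F : C ⥤ D} {G : D ⥤ C}
    (hF : ∀ X : P.FullSubcategory, Q (F.obj X.obj)) {a : Q.FullSubcategory ⥤ P.FullSubcategory}
    (adj : Q.lift (P.ι ⋙ F) hF ⊣ a) (i : a ⋙ P.ι ≅ Q.ι ⋙ G) : AdjOn P Q F G where
  e X Y hX hY :=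
    { toFun := fun g => (adj.homEquiv ⟨X, hX⟩ ⟨Y, hY⟩ (ObjectProperty.homMk g)).hom ≫ i.hom.app ⟨Y, hY⟩
      invFun := fun g => ((adj.homEquiv ⟨X, hX⟩ ⟨Y, hY⟩).symm (ObjectProperty.homMk (g ≫ i.inv.app ⟨Y, hY⟩))).hom
      left_inv := fun g => by
        have h1 : ((adj.homEquiv ⟨X, hX⟩ ⟨Y, hY⟩ (ObjectProperty.homMk g)).hom ≫ i.hom.app ⟨Y, hY⟩) ≫
            i.inv.app ⟨Y, hY⟩ = (adj.homEquiv ⟨X, hX⟩ ⟨Y, hY⟩ (ObjectProperty.homMk g)).hom := by
          rw [Category.assoc, Iso.hom_inv_id_app]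
          exact Category.comp_id _
        simp only [h1]
        exact congrArg (·.hom) ((adj.homEquiv ⟨X, hX⟩ ⟨Y, hY⟩).symm_apply_apply (ObjectProperty.homMk g))
      right_inv := fun g => by
        have h1 := congrArg (·.hom) ((adj.homEquiv ⟨X, hX⟩ ⟨Y, hY⟩).apply_symm_apply
          (ObjectProperty.homMk (g ≫ i.inv.app ⟨Y, hY⟩)))
        refine (congrArg (· ≫ i.hom.app ⟨Y, hY⟩) h1).trans ?_
        change (g ≫ i.inv.app ⟨Y, hY⟩) ≫ i.hom.app ⟨Y, hY⟩ = g
        rw [Category.assoc, Iso.inv_hom_id_app]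
        exact Category.comp_id _ }
  nat_left {X X' Y} hX hX' hY u g := by
    have h1 := congrArg (·.hom) (adj.homEquiv_naturality_left (X := (⟨X, hX⟩ : P.FullSubcategory)) (X' := ⟨X', hX'⟩)
      (Y := ⟨Y, hY⟩) (ObjectProperty.homMk u) (ObjectProperty.homMk g))
    change (adj.homEquiv ⟨X', hX'⟩ ⟨Y, hY⟩ (ObjectProperty.homMk (F.map u ≫ g))).hom ≫ i.hom.app ⟨Y, hY⟩ =
      u ≫ (adj.homEquiv ⟨X, hX⟩ ⟨Y, hY⟩ (ObjectProperty.homMk g)).hom ≫ i.hom.app ⟨Y, hY⟩
    rw [← Category.assoc]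
    exact congrArg (· ≫ i.hom.app ⟨Y, hY⟩) h1
  nat_right {X Y Y'} hX hY hY' g v := by
    have h1 := congrArg (·.hom) (adj.homEquiv_naturality_right (X := (⟨X, hX⟩ : P.FullSubcategory))
      (Y := ⟨Y, hY⟩) (Y' := ⟨Y', hY'⟩) (ObjectProperty.homMk g) (ObjectProperty.homMk v))
    have h2 := i.hom.naturality (X := (⟨Y, hY⟩ : Q.FullSubcategory)) (Y := ⟨Y', hY'⟩) (ObjectProperty.homMk v)
    change (adj.homEquiv ⟨X, hX⟩ ⟨Y', hY'⟩ (ObjectProperty.homMk (g ≫ v))).hom ≫ i.hom.app ⟨Y', hY'⟩ =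
      ((adj.homEquiv ⟨X, hX⟩ ⟨Y, hY⟩ (ObjectProperty.homMk g)).hom ≫ i.hom.app ⟨Y, hY⟩) ≫ G.map v
    rw [Category.assoc]
    refine (congrArg (· ≫ i.hom.app ⟨Y', hY'⟩) h1).trans ?_
    refine (Category.assoc _ _ _).trans ?_
    exact congrArg ((adj.homEquiv ⟨X, hX⟩ ⟨Y, hY⟩ (ObjectProperty.homMk g)).hom ≫ ·) h2

end K353.ASub
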