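import Groth.Agent.DEquiv.K353.TriCompact
import Groth.Prelude.Def_W4stkfunctorsequivp2Beil
import Mathlib.RingTheory.MvPolynomial.Homogeneous
import Mathlib.Data.Matrix.Basis

/-!
# The Beilinson algebra is a finite-dimensional triangular algebra
-/

set_option autoImplicit false

universe u

open MvPolynomial

namespace K353.Beil

open TriAlg DEquiv

variable (k : Type u) [Field k] (n : ℕ)

lemma isBeilinsonMatrix_single (j : Fin (n + 1)) :
    IsBeilinsonMatrix k n (Matrix.single j j (1 : MvPolynomial (Fin (n + 1)) k)) := by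
  classical
  intro a b
  by_cases h : j = a ∧ j = b
  · obtain ⟨rfl, rfl⟩ := h
    refine ⟨fun h => absurd h (lt_irrefl _), ?_⟩
    rw [Matrix.single_apply_same, Nat.sub_self]
    exact isHomogeneous_one _ _
  · have h0 : Matrix.single j j (1 : MvPolynomial (Fin (n + 1)) k) a b = 0 :=
      Matrix.single_apply_of_ne _ _ _ _ _ h
    rw [h0]
    exact ⟨fun _ => rfl, isHomogeneous_zero _ _ _⟩

/-- The diagonal idempotents. -/
noncomputable def idem (j : Fin (n + 1)) : beilinsonAlg k n :=
  ⟨Matrix.single j j 1, isBeilinsonMatrix_single k n j⟩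

lemma idem_mul_mul (i j : Fin (n + 1)) (x : beilinsonAlg k n) :
    ((idem k n i * x * idem k n j : beilinsonAlg k n) : Matrix (Fin (n + 1)) (Fin (n + 1)) (MvPolynomial (Fin (n + 1)) k)) =
      Matrix.single i j ((x : Matrix (Fin (n + 1)) (Fin (n + 1)) (MvPolynomial (Fin (n + 1)) k)) i j) := by
  change Matrix.single i i 1 * (x : Matrix (Fin (n + 1)) (Fin (n + 1)) (MvPolynomial (Fin (n + 1)) k)) * Matrix.single j j 1 = _
  rw [Matrix.single_mul_mul_single, one_mul, mul_one]

theorem triIdem : TriIdem k (idem k n) where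
  sum_eq := by
    apply Subtype.ext
    rw [AddSubmonoidClass.coe_finsetSum]
    change ∑ j, Matrix.single j j (1 : MvPolynomial (Fin (n + 1)) k) = 1
    refine Matrix.ext (fun a b => ?_)
    rw [Matrix.sum_apply]
    by_cases h : a = b
    · subst h
      rw [Finset.sum_eq_single a, Matrix.single_apply_same, Matrix.one_apply_eq]
      · intro c _ hc
        exact Matrix.single_apply_of_ne _ _ _ _ _ (fun h => hc h.1)
      · exact fun h => absurd (Finset.mem_univ _) h
    · refine Eq.trans (Finset.sum_eq_zero (fun c _ => ?_)) (Matrix.one_apply_ne h).symm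
      exact Matrix.single_apply_of_ne c c 1 a b (fun h' => h (h'.1.symm.trans h'.2))
  idem j := by
    apply Subtype.ext
    change Matrix.single j j (1 : MvPolynomial (Fin (n + 1)) k) * Matrix.single j j 1 = Matrix.single j j 1
    rw [Matrix.single_mul_single_same, one_mul]
  low i j hij x := by
    apply Subtype.ext
    rw [idem_mul_mul, (x.2 i j).1 hij, Matrix.single_zero]
    rfl
  diag j x := by
    have h := (x.2 j j).2
    rw [Nat.sub_self] at h
    refine ⟨coeff 0 (x.1 j j), Subtype.ext ?_⟩
    rw [idem_mul_mul]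
    have h1 : x.1 j j = C (coeff 0 (x.1 j j)) := totalDegree_eq_zero_iff_eq_C.1 (by
      have := h.totalDegree_le
      omega)
    change Matrix.single j j (x.1 j j) = algebraMap k (Matrix (Fin (n + 1)) (Fin (n + 1)) (MvPolynomial (Fin (n + 1)) k)) _ * Matrix.single j j 1
    rw [← Algebra.smul_def, Matrix.smul_single, Algebra.smul_def, mul_one, MvPolynomial.algebraMap_eq, ← h1]

theorem fd : FD k (beilinsonAlg k n) (beilinsonAlg k n) := by
  change @Module.Finite k (beilinsonAlg k n) _ _ (kmod k (beilinsonAlg k n) (beilinsonAlg k n))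
  have hkm : kmod k (beilinsonAlg k n) (beilinsonAlg k n) = Algebra.toModule := by
    refine Module.ext' _ _ (fun c x => ?_)
    change algebraMap k (beilinsonAlg k n) c * x = c • x
    rw [Algebra.smul_def]
  rw [hkm]
  have hf : ∀ d : ℕ, Module.Finite k (homogeneousSubmodule (Fin (n + 1)) k d) := fun d =>
    Module.Finite.iff_fg.mpr (homogeneousSubmodule_fg _ _ d)
  let φ : beilinsonAlg k n →ₗ[k] (∀ i j : Fin (n + 1), homogeneousSubmodule (Fin (n + 1)) k ((j : ℕ) - i)) :=
    { toFun := fun M i j => ⟨M.1 i j, (M.2 i j).2⟩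
      map_add' := fun _ _ => rfl
      map_smul' := fun _ _ => rfl }
  refine Module.Finite.of_injective φ ?_
  intro M N h
  apply Subtype.ext
  refine Matrix.ext (fun i j => ?_)
  exact congrArg Subtype.val (congrFun (congrFun h i) j)

end K353.Beil
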