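import Groth.Agent.CohtopA.BrownW
import Mathlib.CategoryTheory.Preadditive.Yoneda.Basic
import Mathlib.CategoryTheory.Limits.Preserves.Shapes.Products
import Mathlib.Algebra.Category.Grp.Colimits
import Mathlib.GroupTheory.QuotientGroup.Basic

/-!
# Compactness and preservation of coproducts by the additive functor `Hom(K, -)`
-/

set_option autoImplicit false

universe w v u

open CategoryTheory CategoryTheory.Limits Opposite

namespace K353.CompactIff

open Groth.Agent.CohtopA.Compact Groth.Agent.CohtopA.BrownW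

variable {D : Type u} [Category.{v} D] [Preadditive D]

/-- If `Hom(K, -)` preserves coproducts then `K` is compact. -/
theorem isCompactW_of_preserves {K : D}
    (h : ∀ J : Type w, PreservesColimitsOfShape (Discrete J) (preadditiveCoyoneda.obj (op K))) :
    IsCompactW.{w} K := by
  intro ι X c hc f
  have := h ι
  let G : D ⥤ AddCommGrpCat.{v} := preadditiveCoyoneda.obj (op K)
  have hG : IsColimit (G.mapCocone c) := isColimitOfPreserves G hc
  -- the subgroup of finite sums
  let S : AddSubgroup (K ⟶ c.pt) :=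
    { carrier := {f | IsFiniteSum c f}
      add_mem' := fun hf hg => hf.add hg
      zero_mem' := IsFiniteSum.zero c
      neg_mem' := by
        rintro _ ⟨s, g, rfl⟩
        exact ⟨s, fun i => - g i, by simp⟩ }
  let q : G.obj c.pt ⟶ AddCommGrpCat.of ((K ⟶ c.pt) ⧸ S) := AddCommGrpCat.ofHom (QuotientAddGroup.mk' S)
  have hq : q = 0 := by
    apply hG.hom_ext
    rintro ⟨j⟩
    rw [comp_zero]
    ext g
    change QuotientAddGroup.mk' S (g ≫ c.ι.app ⟨j⟩) = 0
    rw [QuotientAddGroup.mk'_apply, QuotientAddGroup.eq_zero_iff]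
    exact IsFiniteSum.single c j g
  have h1 : QuotientAddGroup.mk' S f = 0 := by
    have := congrArg (fun (φ : G.obj c.pt ⟶ AddCommGrpCat.of ((K ⟶ c.pt) ⧸ S)) => φ.hom f) hq
    exact this
  rw [QuotientAddGroup.mk'_apply, QuotientAddGroup.eq_zero_iff] at h1
  exact h1

variable {K : D}

/-- The value on `f = ∑ g_i ≫ inj_i` is `∑ φ_i (g_i)`. -/
theorem preserves_of_isCompactW (hK : IsCompactW.{w} K) (J : Type w) :
    PreservesColimitsOfShape (Discrete J) (preadditiveCoyoneda.obj (op K)) := by
  classical
  suffices h : ∀ X : J → D, PreservesColimit (Discrete.functor X) (preadditiveCoyoneda.obj (op K)) from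
    preservesColimitsOfShape_of_discrete _
  intro X
  constructor
  intro (c : Cofan X) hc
  let G : D ⥤ AddCommGrpCat.{v} := preadditiveCoyoneda.obj (op K)
  have hfin : ∀ f : K ⟶ c.pt, Set.Finite {j | f ≫ proj hc j ≠ 0} := by
    intro f
    obtain ⟨s, h1, -⟩ := (hK J X c hc f).eq_sum_proj hc
    refine s.finite_toSet.subset (fun j hj => ?_)
    by_contra hjs
    exact hj (h1 j hjs)
  have hsum : ∀ (f : K ⟶ c.pt), ∃ s : Finset J, f = ∑ j ∈ s, (f ≫ proj hc j) ≫ c.inj j := by
    intro f
    obtain ⟨s, -, h2⟩ := (hK J X c hc f).eq_sum_proj hc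
    exact ⟨s, h2⟩
  refine ⟨?_⟩
  let φ (s : Cocone (Discrete.functor X ⋙ G)) (j : J) : (K ⟶ X j) →+ s.pt := (s.ι.app ⟨j⟩).hom
  let desc (s : Cocone (Discrete.functor X ⋙ G)) : (K ⟶ c.pt) →+ s.pt :=
    { toFun := fun f => ∑ᶠ j, φ s j (f ≫ proj hc j)
      map_zero' := by
        simp only [zero_comp, map_zero, finsum_zero]
      map_add' := fun f g => by
        have : ∀ f : K ⟶ c.pt, (Function.support fun j => φ s j (f ≫ proj hc j)).Finite := by
          intro f
          refine (hfin f).subset (fun j hj h => hj ?_)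
          change φ s j (f ≫ proj hc j) = 0
          rw [h, map_zero]
        rw [← finsum_add_distrib (this f) (this g)]
        refine finsum_congr (fun j => ?_)
        rw [Preadditive.add_comp, map_add] }
  have hdesc : ∀ (s : Cocone (Discrete.functor X ⋙ G)) (j : J) (g : K ⟶ X j),
      desc s (g ≫ c.inj j) = φ s j g := by
    intro s j g
    change ∑ᶠ i, φ s i ((g ≫ c.inj j) ≫ proj hc i) = _
    rw [finsum_eq_single _ j]
    · rw [Category.assoc, inj_proj_self hc j, Category.comp_id]
    · intro i hi
      rw [Category.assoc, inj_proj_of_ne hc j i (Ne.symm hi), comp_zero, map_zero]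
  refine { desc := fun s => AddCommGrpCat.ofHom (desc s), fac := ?_, uniq := ?_ }
  · rintro s ⟨j⟩
    ext g
    exact hdesc s j g
  · intro s m hm
    ext f
    have h1 : ∀ (j : J) (g : K ⟶ X j), m.hom (g ≫ c.inj j) = φ s j g := by
      intro j g
      have := congrArg (fun (φ : (Discrete.functor X ⋙ G).obj ⟨j⟩ ⟶ s.pt) => φ.hom g) (hm ⟨j⟩)
      exact this
    have h2 : m.hom f = desc s f := by
      obtain ⟨t, ht⟩ := hsum f
      rw [ht]
      have e1 := map_sum m.hom (fun j => (f ≫ proj hc j) ≫ c.inj j) t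
      have e2 := map_sum (desc s) (fun j => (f ≫ proj hc j) ≫ c.inj j) t
      refine Eq.trans e1 (Eq.trans ?_ e2.symm)
      refine Finset.sum_congr rfl (fun j _ => ?_)
      rw [hdesc]
      exact h1 j _
    exact h2

theorem isCompactW_iff (K : D) : IsCompactW.{w} K ↔
    ∀ J : Type w, PreservesColimitsOfShape (Discrete J) (preadditiveCoyoneda.obj (op K)) :=
  ⟨fun h => preserves_of_isCompactW h, fun h => isCompactW_of_preserves h⟩

end K353.CompactIff
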