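import Groth.Agent.DEquiv.K353.Diag

/-!
# Base change of composite kernels
-/

set_option autoImplicit false

universe u

open CategoryTheory CategoryTheory.Limits AlgebraicGeometry MonoidalCategory

attribute [local instance] HasDerivedCategory.standard

open scoped Groth.Agent.Dcoh.MonCat Groth.Agent.Dcoh.ModD

namespace K353.ConvPull

open Groth.Agent OnSub Calc Conv Diag

variable {S S' X Y Z : Scheme.{u}} (a : X ⟶ S) (b : Y ⟶ S) (c : Z ⟶ S) (g : S' ⟶ S)

/-- The map of double products after a base change. -/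
noncomputable abbrev bm : pullback (pullback.snd a g) (pullback.snd b g) ⟶ pullback a b :=
  pullback.map (pullback.snd a g) (pullback.snd b g) a b (pullback.fst a g) (pullback.fst b g) g
    (pullback.condition).symm (pullback.condition).symm

lemma bm_fst : bm a b g ≫ pullback.fst a b = pullback.fst (pullback.snd a g) (pullback.snd b g) ≫ pullback.fst a g :=
  pullback.lift_fst _ _ _

lemma bm_snd : bm a b g ≫ pullback.snd a b = pullback.snd (pullback.snd a g) (pullback.snd b g) ≫ pullback.fst b g :=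
  pullback.lift_snd _ _ _

/-- `X' ×_{S'} Y' = X' ×_X (X ×_S Y)`. -/
lemma bm_isPullback_fst : IsPullback (bm a b g) (pullback.fst (pullback.snd a g) (pullback.snd b g))
    (pullback.fst a b) (pullback.fst a g) := by
  have s1 : IsPullback (pullback.snd (pullback.snd a g) (pullback.snd b g) ≫ pullback.fst b g)
      (pullback.fst (pullback.snd a g) (pullback.snd b g)) b (pullback.snd a g ≫ g) :=
    ((IsPullback.of_hasPullback (pullback.snd a g) (pullback.snd b g)).paste_vert
      (IsPullback.of_hasPullback b g).flip).flip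
  have s2 : IsPullback (bm a b g ≫ pullback.snd a b)
      (pullback.fst (pullback.snd a g) (pullback.snd b g)) b (pullback.fst a g ≫ a) := by
    rw [bm_snd, pullback.condition]
    exact s1
  exact IsPullback.of_bot s2.flip (bm_fst a b g).symm (IsPullback.of_hasPullback a b) |>.flip

/-- The map of triple products. -/
noncomputable def tm : FMK.T (pullback.snd a g) (pullback.snd b g) (pullback.snd c g) ⟶ FMK.T a b c :=
  (p13_isPullback a b c).lift (FMK.p13 _ _ _ ≫ bm a c g) (FMK.p12 _ _ _ ≫ bm a b g) (by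
    rw [Category.assoc, Category.assoc, bm_fst, bm_fst, FMK.p13_fst_assoc])

lemma tm_p13 : tm a b c g ≫ FMK.p13 a b c = FMK.p13 _ _ _ ≫ bm a c g :=
  (p13_isPullback a b c).lift_fst _ _ _

lemma tm_p12 : tm a b c g ≫ FMK.p12 a b c = FMK.p12 _ _ _ ≫ bm a b g :=
  (p13_isPullback a b c).lift_snd _ _ _

lemma tm_p23 : tm a b c g ≫ FMK.p23 a b c = FMK.p23 _ _ _ ≫ bm b c g := by
  apply pullback.hom_ext
  · have h : FMK.p23 a b c ≫ pullback.fst b c = FMK.p12 a b c ≫ pullback.snd a b := pullback.condition.symm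
    rw [Category.assoc, Category.assoc, h, reassoc_of% (tm_p12 a b c g), bm_snd, bm_fst, ← Category.assoc,
      ← Category.assoc]
    congr 1
    exact pullback.condition
  · rw [Category.assoc, Category.assoc, ← FMK.p13_snd, reassoc_of% (tm_p13 a b c g), bm_snd, bm_snd,
      FMK.p13_snd_assoc]

/-- `T' = T ×_{X ×_S Z} (X' ×_{S'} Z')`. -/
lemma tm_isPullback : IsPullback (tm a b c g) (FMK.p13 (pullback.snd a g) (pullback.snd b g) (pullback.snd c g))
    (FMK.p13 a b c) (bm a c g) := by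
  have s1 := (p13_isPullback (pullback.snd a g) (pullback.snd b g) (pullback.snd c g)).flip.paste_horiz
    (bm_isPullback_fst a b g)
  rw [← tm_p12, ← bm_fst] at s1
  exact IsPullback.of_right s1 (tm_p13 a b c g) (p13_isPullback a b c).flip

/-- The composite kernel in terms of the monoidal structure. -/
lemma conv_iso (K : CochainComplex (pullback a b).Modules ℤ) (L : CochainComplex (FMK.T a b c).Modules ℤ)
    (M : DCoh.D (FMK.T a b c)) (e : DCoh.toD _ L ≅ M)
    [DCoh.HasLpull (FMK.p12 a b c)] [DCoh.HasLTensorCx L] [DCoh.HasRpush (FMK.p13 a b c)] :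
    Nonempty (FMK.conv a b c K L ≅
      (DCoh.Rpush (FMK.p13 a b c)).obj ((DCoh.Lpull (FMK.p12 a b c)).obj (DCoh.toD _ K) ⊗ M)) := by
  obtain ⟨i⟩ := ltensorCx L
  exact ⟨(DCoh.Rpush (FMK.p13 a b c)).mapIso (i.app _ ≪≫ whiskerLeftIso _ e)⟩

/-- **Base change of composite kernels.** -/
theorem conv_pull [QuasiCompact b] [QuasiSeparated b] (hflat : Flat b ∨ Flat g)
    (K : CochainComplex (pullback a b).Modules ℤ) (M : DCoh.D (pullback b c))
    (hK : DCoh.IsQCohD (DCoh.toD _ K)) (hM : DCoh.IsQCohD M)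
    [DCoh.HasLpull (FMK.p12 a b c)] [DCoh.HasLpull (FMK.p23 a b c)] [DCoh.HasRpush (FMK.p13 a b c)]
    (L : CochainComplex (FMK.T a b c).Modules ℤ) [DCoh.HasLTensorCx L]
    (eL : DCoh.toD _ L ≅ (DCoh.Lpull (FMK.p23 a b c)).obj M)
    [DCoh.HasLpull (bm a b g)] [DCoh.HasLpull (bm b c g)] [DCoh.HasLpull (bm a c g)]
    (K₁ : CochainComplex (pullback (pullback.snd a g) (pullback.snd b g)).Modules ℤ)
    (eK : DCoh.toD _ K₁ ≅ (DCoh.Lpull (bm a b g)).obj (DCoh.toD _ K))
    [DCoh.HasLpull (FMK.p12 (pullback.snd a g) (pullback.snd b g) (pullback.snd c g))]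
    [DCoh.HasLpull (FMK.p23 (pullback.snd a g) (pullback.snd b g) (pullback.snd c g))]
    [DCoh.HasRpush (FMK.p13 (pullback.snd a g) (pullback.snd b g) (pullback.snd c g))]
    (L₁ : CochainComplex (FMK.T (pullback.snd a g) (pullback.snd b g) (pullback.snd c g)).Modules ℤ)
    [DCoh.HasLTensorCx L₁]
    (eL₁ : DCoh.toD _ L₁ ≅ (DCoh.Lpull (FMK.p23 (pullback.snd a g) (pullback.snd b g) (pullback.snd c g))).obj
      ((DCoh.Lpull (bm b c g)).obj M)) :
    Nonempty ((DCoh.Lpull (bm a c g)).obj (FMK.conv a b c K L) ≅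
      FMK.conv (pullback.snd a g) (pullback.snd b g) (pullback.snd c g) K₁ L₁) := by
  have := hasLpull (tm a b c g)
  have q1 : QuasiCompact (FMK.p13 a b c) := MorphismProperty.of_isPullback (p13_isPullback a b c).flip
    (inferInstance : QuasiCompact (pullback.fst a b))
  have q2 : QuasiSeparated (FMK.p13 a b c) := MorphismProperty.of_isPullback (p13_isPullback a b c).flip
    (inferInstance : QuasiSeparated (pullback.fst a b))
  have hfl : Flat (FMK.p13 a b c) ∨ Flat (bm a c g) := by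
    rcases hflat with h | h
    · exact Or.inl (MorphismProperty.of_isPullback (p13_isPullback a b c).flip
        (inferInstance : Flat (pullback.fst a b)))
    · exact Or.inr (MorphismProperty.of_isPullback (bm_isPullback_fst a c g).flip
        (inferInstance : Flat (pullback.fst a g)))
  obtain ⟨e1⟩ := conv_iso a b c K L _ eL
  obtain ⟨e2⟩ := conv_iso _ _ _ K₁ L₁ _ eL₁
  have hC := qc_tensor _ _ (qc_lpull (FMK.p12 a b c) _ hK) (qc_lpull (FMK.p23 a b c) _ hM)
  obtain ⟨e3⟩ := (bc hfl (tm_isPullback a b c g)).app hC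
  obtain ⟨e4⟩ := lpull_tensor (tm a b c g) ((DCoh.Lpull (FMK.p23 a b c)).obj M)
  obtain ⟨e5⟩ := lpull_sq (tm a b c g) (FMK.p12 a b c) (FMK.p12 _ _ _) (bm a b g) (tm_p12 a b c g)
  obtain ⟨e6⟩ := lpull_sq (tm a b c g) (FMK.p23 a b c) (FMK.p23 _ _ _) (bm b c g) (tm_p23 a b c g)
  refine ⟨(DCoh.Lpull (bm a c g)).mapIso e1 ≪≫ e3 ≪≫ (DCoh.Rpush (FMK.p13 _ _ _)).mapIso
    (e4.app _ ≪≫ (e5.app _ ≪≫ (DCoh.Lpull (FMK.p12 _ _ _)).mapIso eK.symm ⊗ᵢ e6.app _)) ≪≫ e2.symm⟩

end K353.ConvPull
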