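import Groth.Agent.CohtopA.DModRing
import Groth.Agent.CohtopA.BrownW
import Groth.Agent.PerfA.Neeman

/-!
# Compact objects of `D(A)` for a ring `A` which need not be commutative

* `isCompactW_projective`: `P[-n]` is compact for `P` finite projective;
* `prop_of_isCompactW`: a thick property containing `A[0]` contains all the compact objects.
-/

set_option autoImplicit false

universe w u

open CategoryTheory Limits Pretriangulated DerivedCategory ZeroObject

namespace K353.DModC

open Groth.Agent Groth.Agent.CohtopA.Compact Groth.Agent.CohtopA.BrownW Groth.Agent.CohtopA.DModRing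
  Groth.Agent.PerfB.CoprodDerived

variable {A : Type u} [Ring A] [HasDerivedCategory.{w} (ModuleCat.{u} A)]

instance hasCoproducts : HasCoproducts.{u} (DerivedCategory (ModuleCat.{u} A)) :=
  fun _ => inferInstance

/-- The chosen coproduct cofan of a family in `D(A)`. -/
theorem exists_cofan_isFiniteSum (n : ℤ) (ι : Type u) (X : ι → DerivedCategory (ModuleCat.{u} A)) :
    ∃ (c : Cofan X) (_ : IsColimit c), ∀ (f : (singleFunctor (ModuleCat.{u} A) n).obj (ModuleCat.of A A) ⟶ c.pt),
      IsFiniteSum c f := by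
  classical
  let M : ι → CochainComplex (ModuleCat.{u} A) ℤ := fun j => Q.objPreimage (X j)
  let e : ∀ j, Q.obj (M j) ≅ X j := fun j => Q.objObjPreimageIso (X j)
  let c : Cofan X := Cofan.mk (Q.obj (∐ M)) (fun j => (e j).inv ≫ Q.map (Sigma.ι M j))
  have hc : IsColimit c := by
    refine Cofan.IsColimit.mk _
      (fun s => Cofan.IsColimit.desc (isColimitQCofan M) (fun j => (e j).hom ≫ s.inj j)) ?_ ?_
    · intro s j
      have := Cofan.IsColimit.fac (isColimitQCofan M) (fun j => (e j).hom ≫ s.inj j) j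
      simp only [Cofan.inj, Cofan.mk_ι_app] at this ⊢
      simp only [c, Cofan.mk_ι_app, Category.assoc]
      rw [this]
      simp
    · intro s m hm
      refine Cofan.IsColimit.hom_ext (isColimitQCofan M) _ _ (fun j => ?_)
      rw [Cofan.IsColimit.fac]
      have := hm j
      simp only [Cofan.inj, Cofan.mk_ι_app, c] at this ⊢
      rw [← this]
      simp
  refine ⟨c, hc, fun f => ?_⟩
  let e0 : (singleFunctor (ModuleCat.{u} A) n).obj (ModuleCat.of A A) ≅
      Q.obj ((CochainComplex.singleFunctor (ModuleCat.{u} A) n).obj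
      (ModuleCat.of A A)) := (singleFunctorIsoCompQ (ModuleCat.{u} A) n).app _
  obtain ⟨g, hg⟩ := LoccohB.HomCls.Q_map_surjective_of_kProj
    ((CochainComplex.singleFunctor (ModuleCat.{u} A) n).obj (ModuleCat.of A A)) (∐ M)
    (e0.inv ≫ f)
  obtain ⟨s, hs⟩ := exists_finset_eq_sum A M n g
  refine ⟨s, fun j => e0.hom ≫ Q.map (g ≫ Sigma.π M j) ≫ (e j).hom, ?_⟩
  have h2 : Q.map g = ∑ j ∈ s, Q.map (g ≫ Sigma.π M j) ≫ Q.map (Sigma.ι M j) := by
    conv_lhs => rw [hs]
    rw [Functor.map_sum]
    exact Finset.sum_congr rfl (fun j _ => Functor.map_comp _ _ _)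
  have h3 : f = e0.hom ≫ Q.map g := by rw [hg, Iso.hom_inv_id_assoc]
  rw [h3, h2, Preadditive.comp_sum]
  refine Finset.sum_congr rfl (fun j _ => ?_)
  simp [c, Cofan.inj]

/-- `A[-n]` is compact. -/
theorem isCompactW_single (n : ℤ) :
    IsCompactW.{u} ((singleFunctor (ModuleCat.{u} A) n).obj (ModuleCat.of A A)) :=
  isCompactW_of_exists (exists_cofan_isFiniteSum n)

lemma isFiniteSum_finset_sum {D : Type*} [Category* D] [Preadditive D] {K : D} {κ : Type*}
    (s : Finset κ) {ι : Type u} {X : ι → D} {c : Cofan X} (f : κ → (K ⟶ c.pt))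
    (h : ∀ k ∈ s, IsFiniteSum c (f k)) : IsFiniteSum c (∑ k ∈ s, f k) := by
  classical
  induction s using Finset.induction_on with
  | empty => simpa using IsFiniteSum.zero c
  | insert a s ha ih =>
    rw [Finset.sum_insert ha]
    exact (h a (Finset.mem_insert_self a s)).add (ih fun k hk => h k (Finset.mem_insert_of_mem hk))

lemma isCompactW_projective (P : ModuleCat.{u} A) (n : ℤ) (hf : Module.Finite A P)
    (hp : Module.Projective A P) :
    IsCompactW.{u} ((singleFunctor (ModuleCat.{u} A) n).obj P) := by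
  classical
  obtain ⟨r, f, hf'⟩ := Module.Finite.exists_fin' A P
  obtain ⟨s, hs⟩ := Module.projective_lifting_property f LinearMap.id hf'
  intro ι X c hc g
  let F := singleFunctor (ModuleCat.{u} A) n
  have h1 : (𝟙 P : P ⟶ P) = ∑ k : Fin r,
      (ModuleCat.ofHom ((LinearMap.proj k).comp s) : P ⟶ ModuleCat.of A A) ≫
        (ModuleCat.ofHom (f.comp (LinearMap.single A (fun _ : Fin r => A) k)) :
          ModuleCat.of A A ⟶ P) := by
    apply ModuleCat.hom_ext
    rw [ModuleCat.hom_sum]
    ext x
    rw [LinearMap.sum_apply]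
    have h2 : ∀ k : Fin r, ((ModuleCat.ofHom ((LinearMap.proj k).comp s) : P ⟶ ModuleCat.of A A) ≫
        (ModuleCat.ofHom (f.comp (LinearMap.single A (fun _ : Fin r => A) k)) :
          ModuleCat.of A A ⟶ P)).hom x = f (Pi.single k (s x k)) := fun k => rfl
    simp only [h2]
    rw [← map_sum, LinearMap.sum_single_apply]
    exact (LinearMap.congr_fun hs x).symm
  have h3 : g = ∑ k : Fin r, F.map (ModuleCat.ofHom ((LinearMap.proj k).comp s) :
      P ⟶ ModuleCat.of A A) ≫ (F.map (ModuleCat.ofHom (f.comp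
        (LinearMap.single A (fun _ : Fin r => A) k)) : ModuleCat.of A A ⟶ P) ≫ g) := by
    have h4 : F.map (𝟙 P) ≫ g = g := by rw [F.map_id, Category.id_comp]
    rw [h1, Functor.map_sum, Preadditive.sum_comp] at h4
    rw [← h4]
    refine Finset.sum_congr rfl (fun k _ => ?_)
    rw [Functor.map_comp, Category.assoc]
    rw [h4]
  rw [h3]
  exact isFiniteSum_finset_sum _ _ (fun k _ =>
    (isCompactW_single n ι X c hc _).precomp _)

/-- `A[0]` generates `D(A)`. -/
theorem generates_single (X : DerivedCategory (ModuleCat.{u} A))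
    (hX : ∀ (n : ℤ) (f : Q.obj ((CochainComplex.singleFunctor (ModuleCat.{u} A) 0).obj (ModuleCat.of A A)) ⟶ X⟦n⟧),
      f = 0) : IsZero X := by
  let M := Q.objPreimage X
  let e : Q.obj M ≅ X := Q.objObjPreimageIso X
  suffices hM : M.Acyclic by
    have h1 : QuasiIso (0 : M ⟶ 0) := by
      rw [quasiIso_iff]
      intro i
      rw [quasiIsoAt_iff_exactAt]
      · rw [HomologicalComplex.exactAt_iff_isZero_homology]
        exact Functor.map_isZero (HomologicalComplex.homologyFunctor _ _ i) (isZero_zero _)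
      · exact hM i
    rw [← DerivedCategory.isIso_Q_map_iff_quasiIso] at h1
    exact (Functor.map_isZero DerivedCategory.Q (isZero_zero _)).of_iso
      (e.symm ≪≫ asIso (DerivedCategory.Q.map (0 : M ⟶ 0)))
  intro n
  rw [LoccohB.KProj.exactAt_iff_elem]
  intro z hz
  let f : ModuleCat.of A A ⟶ M.X n := ModuleCat.ofHom (LinearMap.toSpanSingleton A _ z)
  have hf : f ≫ M.d n (n + 1) = 0 := by
    ext
    simpa [f] using hz
  have h0 : LoccohB.HomCls.scls0 f hf = 0 := by
    have := hX n (LoccohB.HomCls.scls0 f hf ≫ (shiftFunctor _ n).map e.hom)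
    rwa [← zero_comp (f := (shiftFunctor _ n).map e.hom), cancel_mono] at this
  rw [LoccohB.HomCls.scls0, LoccohB.HomCls.hcls_eq_zero_iff_of_kProj,
    CochainComplex.HomComplex.Cocycle.fromSingleMk_mem_coboundaries_iff _ _ _ _ _ (n - 1)
      (by simp)] at h0
  obtain ⟨g, hg⟩ := h0
  refine ⟨g (1 : A), ?_⟩
  have := congr($hg (1 : A))
  simpa [f] using this

lemma isCompactObjRel_of_isCompactW {D : Type*} [Category* D] [Preadditive D] {K : D} (P : D → Prop)
    (hK : IsCompactW.{w} K) : PerfAux.IsCompactObjRel.{w} P K := by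
  rw [PerfA.CompactRel.isCompactObjRel_iff]
  intro ι X _ _ f
  exact hK ι X _ (coproductIsCoproduct X) f

theorem top_isTriangulated {D : Type*} [Category* D] [Preadditive D] [HasZeroObject D] [HasShift D ℤ]
    [∀ n : ℤ, (shiftFunctor D n).Additive] [Pretriangulated D] : (⊤ : ObjectProperty D).IsTriangulated where
  toContainsZero := inferInstance
  isStableUnderShiftBy _ := ⟨fun _ _ => trivial⟩
  ext₂' _ _ _ _ := ObjectProperty.le_isoClosure _ _ trivial

lemma eq_zero_of_shift {D : Type*} [Category* D] [Preadditive D] [HasShift D ℤ]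
    [∀ n : ℤ, (shiftFunctor D n).Additive] (G X : D) (n : ℤ) (h : ∀ φ : G⟦-n⟧ ⟶ X, φ = 0)
    (f : G ⟶ X⟦n⟧) : f = 0 := by
  have h1 := h (f⟦-n⟧' ≫ (shiftFunctorCompIsoId D n (-n) (add_neg_cancel n)).hom.app X)
  have h2 : f⟦-n⟧' = 0 := by
    rw [← cancel_mono ((shiftFunctorCompIsoId D n (-n) (add_neg_cancel n)).hom.app X)]
    exact h1.trans (zero_comp).symm
  apply (shiftFunctor D (-n)).map_injective
  rw [h2, Functor.map_zero]

/-- A thick property containing `A[0]` contains all the compact objects. -/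
theorem prop_of_isCompactW (P : ObjectProperty (DerivedCategory (ModuleCat.{u} A))) [P.IsTriangulated]
    [P.IsClosedUnderIsomorphisms]
    [P.IsStableUnderRetracts] (hP : P ((singleFunctor (ModuleCat.{u} A) 0).obj (ModuleCat.of A A)))
    (K : DerivedCategory (ModuleCat.{u} A)) (hK : IsCompactW.{u} K) : P K := by
  have h0 := top_isTriangulated (D := DerivedCategory (ModuleCat.{u} A))
  let e0 : (singleFunctor (ModuleCat.{u} A) 0).obj (ModuleCat.of A A) ≅
      Q.obj ((CochainComplex.singleFunctor (ModuleCat.{u} A) 0).obj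
      (ModuleCat.of A A)) := (singleFunctorIsoCompQ (ModuleCat.{u} A) 0).app _
  have hls := locallySmall A
  refine PerfA.Neeman.prop_of_isCompactObjRel (Q := (⊤ : ObjectProperty (DerivedCategory (ModuleCat.{u} A))))
    (fun _ _ _ => trivial) (J := PUnit.{u + 1})
    (fun _ => Q.obj ((CochainComplex.singleFunctor (ModuleCat.{u} A) 0).obj (ModuleCat.of A A)))
    (fun _ => trivial) (fun _ _ _ _ => inferInstance) (fun X _ h => ?_)
    (fun _ => isCompactObjRel_of_isCompactW _ (isCompactW_of_iso e0 (isCompactW_single 0))) P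
    (fun _ => P.prop_of_iso e0 hP) K trivial (isCompactObjRel_of_isCompactW _ hK)
  refine generates_single X (fun n f => ?_)
  exact eq_zero_of_shift _ _ n (h PUnit.unit (-n)) f

end K353.DModC
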