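import Groth.Agent.DEquiv.K353.PushAdj
import Groth.Agent.PerfC.LpullPC
import Groth.Agent.Dcoh.PerfTens
import Groth.Agent.PerfC.RHomD
import Groth.Agent.Fixpt.H313.DX

/-!
# Adjoints of Fourier–Mukai functors with dualizable kernels

For a span `p : T ⟶ X`, `q : T ⟶ Y` and a dualizable kernel `K` with dual `Kd`:
* `rightAdj`: if `Rq_* ⊣ Lq^*(-) ⊗ W`, then `q_*(p^*(-) ⊗ K) ⊣ p_*(q^*(-) ⊗ (W ⊗ Kd))`;
* `leftAdj`: if `Rp_* ⊣ Lp^*(-) ⊗ W` with `W` invertible, then `p_*(q^*(-) ⊗ (Kd ⊗ W)) ⊣ q_*(p^*(-) ⊗ K)`;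
* `fm_iso_pull`: transport of kernels along isomorphisms;
* `rhom_iso`: `RHom(K, -) ≅ - ⊗ Kd`.
-/

set_option autoImplicit false

universe u

open CategoryTheory CategoryTheory.Limits AlgebraicGeometry MonoidalCategory

attribute [local instance] HasDerivedCategory.standard

open scoped Groth.Agent.Dcoh.MonCat Groth.Agent.Dcoh.ModD

namespace K353.KerAdj

open Groth.Agent OnSub Calc Conv ASub Diag

variable {X Y T T' : Scheme.{u}}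

/-- `RHom(K, -) ≅ - ⊗ Kd`. -/
theorem rhom_iso (K : CochainComplex X.Modules ℤ) [DCoh.HasLTensorCx K] [DCoh.HasRSheafHom K] (Kd : DCoh.D X)
    [ExactPairing (DCoh.toD X K) Kd] : Nonempty (DCoh.RSheafHom K ≅ tensorRight Kd) := by
  obtain ⟨e⟩ := ltensorCx K
  exact ⟨((DCoh.RSheafHomAdj K).ofNatIsoLeft e).rightAdjointUniq (tensorRightAdjunction (DCoh.toD X K) Kd)⟩

theorem rhom_unit (K : CochainComplex X.Modules ℤ) [DCoh.HasLTensorCx K] [DCoh.HasRSheafHom K] (Kd : DCoh.D X)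
    [ExactPairing (DCoh.toD X K) Kd] :
    Nonempty ((DCoh.RSheafHom K).obj (DCoh.inD X (Coh.structureModule X)) ≅ Kd) := by
  obtain ⟨e⟩ := rhom_iso K Kd
  exact ⟨e.app _ ≪≫ whiskerRightIso (Dcoh.DualX.unitIso X) Kd ≪≫ λ_ Kd⟩

/-- `Lσ^* ⋙ Rσ_* ≅ id` for an isomorphism `σ`. -/
lemma pull_push_iso (σ : X ⟶ Y) [IsIso σ] [DCoh.HasLpull σ] [DCoh.HasRpush σ] :
    Nonempty (DCoh.Lpull σ ⋙ DCoh.Rpush σ ≅ 𝟭 (DCoh.D Y)) := by
  have := hasLpull (inv σ)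
  have := hasLpull (𝟙 X)
  have := hasLpull (𝟙 Y)
  obtain ⟨i1⟩ := lpull_comp σ (inv σ) (𝟙 _) (by simp)
  obtain ⟨i2⟩ := lpull_comp (inv σ) σ (𝟙 _) (by simp)
  obtain ⟨j1⟩ := lpull_id X
  obtain ⟨j2⟩ := lpull_id Y
  let E : DCoh.D Y ≌ DCoh.D X := CategoryTheory.Equivalence.mk (DCoh.Lpull σ) (DCoh.Lpull (inv σ))
    (i2 ≪≫ j2).symm (i1 ≪≫ j1)
  let r : DCoh.Rpush σ ≅ DCoh.Lpull (inv σ) := (Dcoh.DerPull.lpullAdj σ).rightAdjointUniq E.toAdjunction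
  exact ⟨Functor.isoWhiskerLeft _ r ≪≫ i2 ≪≫ j2⟩

/-- Transport of a kernel along an isomorphism of spans. -/
theorem fm_iso_pull (σ : T' ⟶ T) [IsIso σ] (p : T ⟶ X) (q : T ⟶ Y) (p' : T' ⟶ X) (q' : T' ⟶ Y)
    (hp : σ ≫ p = p') (hq : σ ≫ q = q') [DCoh.HasLpull p] [DCoh.HasRpush q] [DCoh.HasLpull p']
    [DCoh.HasRpush q'] [DCoh.HasLpull σ] (M : DCoh.D T) :
    Nonempty (fm p' q' ((DCoh.Lpull σ).obj M) ≅ fm p q M) := by
  have := hasRpush σ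
  obtain ⟨i⟩ := lpull_comp σ p p' hp
  obtain ⟨j⟩ := rpush_comp σ q q' hq
  obtain ⟨k⟩ := lpull_tensor σ M
  obtain ⟨l⟩ := pull_push_iso σ
  exact ⟨(Functor.isoWhiskerRight i (tensorRight ((DCoh.Lpull σ).obj M) ⋙ DCoh.Rpush q') ≪≫ Iso.refl _).symm ≪≫
    Functor.isoWhiskerLeft (DCoh.Lpull p) (Functor.isoWhiskerLeft (DCoh.Lpull σ ⋙ tensorRight ((DCoh.Lpull σ).obj M))
      j.symm ≪≫ Functor.isoWhiskerRight k.symm (DCoh.Rpush σ ⋙ DCoh.Rpush q) ≪≫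
      Functor.isoWhiskerLeft (tensorRight M) (Functor.isoWhiskerRight l (DCoh.Rpush q) ≪≫ Functor.leftUnitor _))⟩

/-- The pullback of an invertible object is invertible. -/
theorem lpull_inv (f : T ⟶ X) [DCoh.HasLpull f] {W W' : DCoh.D X} (u : W ⊗ W' ≅ 𝟙_ (DCoh.D X)) :
    Nonempty ((DCoh.Lpull f).obj W ⊗ (DCoh.Lpull f).obj W' ≅ 𝟙_ (DCoh.D T)) := by
  let := Dual.H379.DQMon.lpullMon f
  exact ⟨Functor.Monoidal.μIso (DCoh.Lpull f) W W' ≪≫ (DCoh.Lpull f).mapIso u ≪≫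
    (Functor.Monoidal.εIso (DCoh.Lpull f)).symm⟩

/-- The right adjoint of a Fourier–Mukai functor. -/
theorem rightAdj (p : T ⟶ X) (q : T ⟶ Y) [QuasiCompact q] [QuasiSeparated q] [DCoh.HasLpull p] [DCoh.HasRpush p]
    [DCoh.HasLpull q] [DCoh.HasRpush q] (K Kd W M : DCoh.D T) [ExactPairing K Kd] (hK : qc T K) (hKd : qc T Kd)
    (hW : qc T W) (h : Nonempty (AdjOn (qc T) (qc Y) (DCoh.Rpush q) (DCoh.Lpull q ⋙ tensorRight W)))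
    (e : M ≅ W ⊗ Kd) : Nonempty (AdjOn (qc X) (qc Y) (fm p q K) (fm q p M)) := by
  obtain ⟨h⟩ := h
  have a1 : AdjOn (qc X) (qc T) (DCoh.Lpull p) (DCoh.Rpush p) := AdjOn.ofAdj (Dcoh.DerPull.lpullAdj p) _ _
  have a2 : AdjOn (qc T) (qc T) (tensorRight K) (tensorRight Kd) := AdjOn.ofAdj (tensorRightAdjunction K Kd) _ _
  have a3 := (a1.comp a2 (qc_lpull p) (fun Z hZ => qc_tensor Z Kd hZ hKd)).comp h
    (fun A hA => qc_tensor _ K (qc_lpull p A hA) hK) (fun Z hZ => qc_tensor _ W (qc_lpull q Z hZ) hW)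
  obtain ⟨i⟩ := tensorRight_comp W Kd
  obtain ⟨j⟩ := tensorRight_congr e.symm
  exact ⟨a3.congrRight (Functor.isoWhiskerLeft (qc Y).ι (Functor.isoWhiskerLeft (DCoh.Lpull q)
    (Functor.isoWhiskerRight (i ≪≫ j) (DCoh.Rpush p))))⟩

/-- `- ⊗ W` and `- ⊗ W'` are adjoint if `W ⊗ W' ≅ 1`. -/
theorem tensorInv (W W' : DCoh.D T) (u : W ⊗ W' ≅ 𝟙_ (DCoh.D T)) :
    Nonempty (tensorRight W ⊣ tensorRight W') := by
  let := Fixpt.H313.DX.brDX T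
  obtain ⟨i⟩ := tensorRight_comp W W'
  obtain ⟨j⟩ := tensorRight_congr u
  obtain ⟨i'⟩ := tensorRight_comp W' W
  obtain ⟨j'⟩ := tensorRight_congr (β_ W' W ≪≫ u)
  let E : DCoh.D T ≌ DCoh.D T := CategoryTheory.Equivalence.mk (tensorRight W) (tensorRight W')
    (i ≪≫ j ≪≫ rightUnitorNatIso (DCoh.D T)).symm (i' ≪≫ j' ≪≫ rightUnitorNatIso (DCoh.D T))
  exact ⟨E.toAdjunction⟩

/-- The left adjoint of `Lp^*`. -/
theorem pullLeftAdj (p : T ⟶ X) [DCoh.HasLpull p] [DCoh.HasRpush p] (W W' : DCoh.D T)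
    (hW : qc T W) (u : W ⊗ W' ≅ 𝟙_ (DCoh.D T))
    (h : Nonempty (AdjOn (qc T) (qc X) (DCoh.Rpush p) (DCoh.Lpull p ⋙ tensorRight W))) :
    Nonempty (AdjOn (qc T) (qc X) (tensorRight W ⋙ DCoh.Rpush p) (DCoh.Lpull p)) := by
  obtain ⟨h⟩ := h
  obtain ⟨a0⟩ := tensorInv W W' u
  have a1 : AdjOn (qc T) (qc T) (tensorRight W) (tensorRight W') := AdjOn.ofAdj a0 _ _
  have a2 := a1.comp h (fun Z hZ => qc_tensor Z W hZ hW) (fun Z hZ => qc_tensor _ W (qc_lpull p Z hZ) hW)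
  obtain ⟨i⟩ := tensorRight_comp W W'
  obtain ⟨j⟩ := tensorRight_congr u
  exact ⟨a2.congrRight (Functor.isoWhiskerLeft (qc X).ι (Functor.isoWhiskerLeft (DCoh.Lpull p)
    (i ≪≫ j ≪≫ rightUnitorNatIso (DCoh.D T)) ≪≫ Functor.rightUnitor _))⟩

/-- The left adjoint of a Fourier–Mukai functor. -/
theorem leftAdj (p : T ⟶ X) (q : T ⟶ Y) [QuasiCompact q] [QuasiSeparated q] [DCoh.HasLpull p] [DCoh.HasRpush p]
    [DCoh.HasLpull q] [DCoh.HasRpush q] (K Kd W W' M : DCoh.D T) [ExactPairing K Kd]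
    (hK : qc T K) (hKd : qc T Kd) (hW : qc T W) (u : W ⊗ W' ≅ 𝟙_ (DCoh.D T))
    (h : Nonempty (AdjOn (qc T) (qc X) (DCoh.Rpush p) (DCoh.Lpull p ⋙ tensorRight W)))
    (e : M ≅ Kd ⊗ W) : Nonempty (AdjOn (qc Y) (qc X) (fm q p M) (fm p q K)) := by
  obtain ⟨h⟩ := pullLeftAdj p W W' hW u h
  have a1 : AdjOn (qc Y) (qc T) (DCoh.Lpull q) (DCoh.Rpush q) := AdjOn.ofAdj (Dcoh.DerPull.lpullAdj q) _ _
  let := Fixpt.H313.DX.brDX T
  have hs : ExactPairing Kd K := BraidedCategory.exactPairing_swap K Kd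
  have a2 : AdjOn (qc T) (qc T) (tensorRight Kd) (tensorRight K) := AdjOn.ofAdj (tensorRightAdjunction Kd K) _ _
  have a3 := (a1.comp a2 (qc_lpull q) (fun Z hZ => qc_tensor Z K hZ hK)).comp h
    (fun A hA => qc_tensor _ Kd (qc_lpull q A hA) hKd) (fun Z hZ => qc_lpull p Z hZ)
  obtain ⟨i⟩ := tensorRight_comp Kd W
  obtain ⟨j⟩ := tensorRight_congr e.symm
  exact ⟨a3.congrLeft (Functor.isoWhiskerLeft (qc Y).ι (Functor.isoWhiskerLeft (DCoh.Lpull q)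
    (Functor.isoWhiskerRight (i ≪≫ j) (DCoh.Rpush p))))⟩

end K353.KerAdj
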