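import Groth.Agent.Dual.H307.MonBC2
import Groth.Agent.DEquiv.K353.AdjOn

/-!
# Universal properties in monoidal categories: from local to global

Converses of the results of `Dual.H307.MonBC`:
* `univAt_bc`: if the universal property holds after base change, the base changed pairing is universal;
* `bijective_of_isIso_dualMap`: if `F(L ⊗ Mᵛ) ⟶ K ⊗ (F M)ᵛ` is an isomorphism, the universal property holds on
  `f^* Q ⊗ M`, `Q` dualizable;
* `bijective_counit`: the universal property of `f^* P ⊗ L ` for `P` dualizable.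
-/

set_option autoImplicit false

open CategoryTheory MonoidalCategory Functor.LaxMonoidal Functor.OplaxMonoidal Functor.Monoidal

namespace K353.MonUniv

open Groth.Agent.Dual.H307.MonBC

universe v₁ v₂ v₃ v₄ u₁ u₂ u₃ u₄

variable {C : Type u₁} [Category.{v₁} C] [MonoidalCategory C] {D : Type u₂} [Category.{v₂} D] [MonoidalCategory D]
  {C' : Type u₃} [Category.{v₃} C'] [MonoidalCategory C'] {D' : Type u₄} [Category.{v₄} D'] [MonoidalCategory D']

section Push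

variable {fs : D ⥤ C} {F : C ⥤ D} (adj : fs ⊣ F) [fs.Monoidal] [F.LaxMonoidal] [adj.IsMonoidal]

omit [fs.Monoidal] [adj.IsMonoidal] in
/-- Converse of `univAt_push`. -/
theorem bijective_of_univAt_push {N M L : C} (p : N ⊗ M ⟶ L) {K : D} (τ : F.obj L ⟶ K) (Q : D)
    (hp : UnivAt p (fs.obj Q)) (hQ : IsIso (proj adj Q M)) (h : UnivAt (mapP F p ≫ τ) Q) :
    Function.Bijective (fun φ : fs.obj Q ⊗ M ⟶ L => F.map φ ≫ τ) := by
  have h1 : (fun x : Q ⟶ F.obj N => (x ▷ F.obj M) ≫ mapP F p ≫ τ) =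
      ((fun t => proj adj Q M ≫ t) ∘ (fun φ : fs.obj Q ⊗ M ⟶ L => F.map φ ≫ τ)) ∘
        ((fun y : fs.obj Q ⟶ N => (y ▷ M) ≫ p) ∘ (adj.homEquiv _ _).symm) := by
    funext x
    obtain ⟨y, rfl⟩ := (adj.homEquiv _ _).surjective x
    simp only [Function.comp_apply, Equiv.symm_apply_apply]
    rw [← Category.assoc, whiskerRight_comp_mapP, Category.assoc]
  rw [UnivAt, h1] at h
  have h2 := (Function.Bijective.of_comp_iff _ (hp.comp (Equiv.bijective _))).1 h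
  exact (Function.Bijective.of_comp_iff' ((asIso (proj adj Q M)).symm.homFromEquiv).bijective _).1 h2

include adj in
theorem bijective_of_isIso_dualMap (M Md : C) [ExactPairing M Md] (FMd : D) [ExactPairing (F.obj M) FMd] {L : C}
    {K : D} (τ : F.obj L ⟶ K) (h : IsIso (dualMap F M Md FMd τ)) (Q Qd : D) [ExactPairing Q Qd] :
    Function.Bijective (fun φ : fs.obj Q ⊗ M ⟶ L => F.map φ ≫ τ) := by
  have : IsIso (sharp (F.obj M) FMd (mapP F (p₀ M Md L) ≫ τ)) := h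
  exact bijective_of_univAt_push adj (p₀ M Md L) τ Q (univAt_of_isIso M Md _ _) (isIso_proj adj Q Qd M)
    (univAt_of_isIso (F.obj M) FMd (mapP F (p₀ M Md L) ≫ τ) Q)

omit [fs.Monoidal] [adj.IsMonoidal] in
lemma proj_natural (M : C) {Q Q' : D} (v : Q ⟶ Q') :
    proj adj Q M ≫ F.map (fs.map v ▷ M) = v ▷ F.obj M ≫ proj adj Q' M := by
  have h := adj.unit.naturality v
  dsimp only [Functor.id_obj, Functor.comp_obj, Functor.id_map, Functor.comp_map] at h
  rw [proj, proj, Category.assoc, ← μ_natural_left, ← comp_whiskerRight_assoc, ← comp_whiskerRight_assoc, h]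

/-- The projection morphism and duals. -/
lemma symm_comp_proj (P Pd : D) [ExactPairing P Pd] (L : C) (Z : D) (w : Z ⟶ P ⊗ F.obj L) :
    letI := Groth.Agent.Dcoh.DualMap.mapPairing fs P Pd
    (tensorLeftHomEquiv (fs.obj Z) (fs.obj P) (fs.obj Pd) L).symm ((adj.homEquiv _ _).symm (w ≫ proj adj P L)) =
      μ fs Pd Z ≫ (adj.homEquiv _ _).symm ((tensorLeftHomEquiv Z P Pd (F.obj L)).symm w) := by
  let _ := Groth.Agent.Dcoh.DualMap.mapPairing fs P Pd
  have he : ε_ (fs.obj P) (fs.obj Pd) = μ fs Pd P ≫ fs.map (ε_ P Pd) ≫ η fs := rfl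
  rw [Adjunction.homEquiv_counit, Adjunction.homEquiv_counit, Functor.map_comp, Category.assoc,
    map_proj_counit]
  change fs.obj Pd ◁ (fs.map w ≫ δ fs P (F.obj L) ≫ fs.obj P ◁ adj.counit.app L) ≫
    (α_ _ _ _).inv ≫ ε_ (fs.obj P) (fs.obj Pd) ▷ L ≫ (λ_ _).hom =
      μ fs Pd Z ≫ fs.map (Pd ◁ w ≫ (α_ _ _ _).inv ≫ ε_ P Pd ▷ F.obj L ≫ (λ_ _).hom) ≫ adj.counit.app L
  rw [he]
  simp only [Functor.map_comp, comp_whiskerRight, MonoidalCategory.whiskerLeft_comp, Category.assoc]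
  rw [← μ_natural_right_assoc, Functor.Monoidal.map_associator_inv, Functor.Monoidal.map_whiskerRight,
    Functor.Monoidal.map_leftUnitor]
  simp only [Category.assoc, Functor.Monoidal.μ_δ_assoc]
  have h2 := leftUnitor_naturality (adj.counit.app L)
  have h3 := whisker_exchange (η fs) (adj.counit.app L)
  have h4 := whisker_exchange (fs.map (ε_ P Pd)) (adj.counit.app L)
  have h5 := whisker_exchange (μ fs Pd P) (adj.counit.app L)
  dsimp only [Functor.id_obj, Functor.comp_obj] at h2 h3 h4 h5 ⊢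
  rw [← h2, ← reassoc_of% h3, ← reassoc_of% h4, ← reassoc_of% h5]
  rw [MonoidalCategory.tensor_whiskerLeft]
  simp only [Category.assoc, Iso.inv_hom_id_assoc]

/-- The transpose of `F φ ≫ proj⁻¹`. -/
lemma symm_map_inv_proj (P Pd : D) [ExactPairing P Pd] (L G : C) [IsIso (proj adj P L)]
    (φ : G ⟶ fs.obj P ⊗ L) :
    letI := Groth.Agent.Dcoh.DualMap.mapPairing fs P Pd
    (tensorLeftHomEquiv (F.obj G) P Pd (F.obj L)).symm (F.map φ ≫ inv (proj adj P L)) =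
      proj adj Pd G ≫ F.map ((tensorLeftHomEquiv G (fs.obj P) (fs.obj Pd) L).symm φ) := by
  let _ := Groth.Agent.Dcoh.DualMap.mapPairing fs P Pd
  have h1 := symm_comp_proj adj P Pd L (F.obj G) (F.map φ ≫ inv (proj adj P L))
  rw [Category.assoc, IsIso.inv_hom_id, Category.comp_id] at h1
  apply (adj.homEquiv _ _).symm.injective
  rw [← cancel_epi (μ fs Pd (F.obj G))]
  refine Eq.trans h1.symm ?_
  have h2 : (adj.homEquiv _ _).symm (F.map φ) = adj.counit.app G ≫ φ := by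
    rw [Adjunction.homEquiv_counit]
    exact adj.counit.naturality φ
  have h3 : (adj.homEquiv _ _).symm (proj adj Pd G ≫ F.map ((tensorLeftHomEquiv G (fs.obj P) (fs.obj Pd) L).symm φ)) =
      δ fs Pd (F.obj G) ≫ (fs.obj Pd ◁ adj.counit.app G) ≫ (tensorLeftHomEquiv G (fs.obj P) (fs.obj Pd) L).symm φ := by
    rw [Adjunction.homEquiv_counit, Functor.map_comp, Category.assoc]
    have h4 := adj.counit.naturality ((tensorLeftHomEquiv G (fs.obj P) (fs.obj Pd) L).symm φ)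
    dsimp only [Functor.comp_map, Functor.id_map, Functor.comp_obj, Functor.id_obj] at h4
    rw [h4, ← Category.assoc (fs.map _), map_proj_counit, Category.assoc]
  rw [h2, h3, Functor.Monoidal.μ_δ_assoc]
  change fs.obj Pd ◁ (adj.counit.app G ≫ φ) ≫ (α_ _ _ _).inv ≫ ε_ (fs.obj P) (fs.obj Pd) ▷ L ≫ (λ_ _).hom =
    fs.obj Pd ◁ adj.counit.app G ≫ fs.obj Pd ◁ φ ≫ (α_ _ _ _).inv ≫ ε_ (fs.obj P) (fs.obj Pd) ▷ L ≫ (λ_ _).hom
  rw [MonoidalCategory.whiskerLeft_comp, Category.assoc]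

/-- The universal property of `f^* P ⊗ L`, `P` dualizable. -/
theorem bijective_counit (P Pd : D) [ExactPairing P Pd] (L G : C) [IsIso (proj adj P L)] [IsIso (proj adj Pd G)]
    {K : D} (τ : F.obj L ⟶ K) (hτ : Function.Bijective (fun φ : fs.obj Pd ⊗ G ⟶ L => F.map φ ≫ τ)) :
    Function.Bijective (fun φ : G ⟶ fs.obj P ⊗ L => F.map φ ≫ inv (proj adj P L) ≫ P ◁ τ) := by
  let _ := Groth.Agent.Dcoh.DualMap.mapPairing fs P Pd
  have h1 : (fun φ : G ⟶ fs.obj P ⊗ L => F.map φ ≫ inv (proj adj P L) ≫ P ◁ τ) =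
      (tensorLeftHomEquiv (F.obj G) P Pd K) ∘ (fun t => proj adj Pd G ≫ t) ∘
        (fun ψ : fs.obj Pd ⊗ G ⟶ L => F.map ψ ≫ τ) ∘ (tensorLeftHomEquiv G (fs.obj P) (fs.obj Pd) L).symm := by
    funext φ
    simp only [Function.comp_apply]
    rw [← Category.assoc (proj adj Pd G), ← symm_map_inv_proj adj P Pd L G φ, tensorLeftHomEquiv_naturality,
      Equiv.apply_symm_apply, Category.assoc]
  rw [h1]
  exact (Equiv.bijective _).comp ((((asIso (proj adj Pd G)).symm.homFromEquiv).bijective).comp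
    (hτ.comp (Equiv.bijective _)))

/-- The adjunction `F ⊣ f^*(-) ⊗ L` on full subcategories. -/
theorem adjOn (P : ObjectProperty C) (Q : ObjectProperty D) (L : C) (τ : F.obj L ⟶ 𝟙_ D)
    (h : ∀ A : D, Q A → ∃ (Ad : D) (_ : ExactPairing A Ad), ∀ G : C, P G → IsIso (proj adj Ad G) ∧
      Function.Bijective (fun φ : fs.obj Ad ⊗ G ⟶ L => F.map φ ≫ τ)) :
    Nonempty (K353.ASub.AdjOn P Q F (fs ⋙ tensorRight L)) := by
  have hp : ∀ A : D, Q A → IsIso (proj adj A L) := by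
    intro A hA
    obtain ⟨Ad, _, -⟩ := h A hA
    exact isIso_proj adj A Ad L
  refine ⟨K353.ASub.ofCounit
    (fun A hA => haveI := hp A hA; inv (proj adj A L) ≫ A ◁ τ ≫ (ρ_ A).hom) ?_ ?_⟩
  · intro A B hA hB v
    have := hp A hA
    have := hp B hB
    have h1 : F.map (fs.map v ▷ L) ≫ inv (proj adj B L) = inv (proj adj A L) ≫ v ▷ F.obj L := by
      rw [IsIso.eq_inv_comp, ← Category.assoc, IsIso.comp_inv_eq]
      exact proj_natural adj L v
    change F.map (fs.map v ▷ L) ≫ inv (proj adj B L) ≫ B ◁ τ ≫ (ρ_ B).hom =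
      (inv (proj adj A L) ≫ A ◁ τ ≫ (ρ_ A).hom) ≫ v
    rw [← Category.assoc, h1]
    simp only [Category.assoc]
    rw [← rightUnitor_naturality, whisker_exchange_assoc]
  · intro G A hG hA
    have := hp A hA
    obtain ⟨Ad, _, h2⟩ := h A hA
    obtain ⟨h3, h4⟩ := h2 G hG
    have h5 := bijective_counit adj A Ad L G τ h4
    have h6 : (fun g : G ⟶ fs.obj A ⊗ L => F.map g ≫ inv (proj adj A L) ≫ A ◁ τ ≫ (ρ_ A).hom) =
        (fun t => t ≫ (ρ_ A).hom) ∘ (fun φ : G ⟶ fs.obj A ⊗ L => F.map φ ≫ inv (proj adj A L) ≫ A ◁ τ) := by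
      funext g
      simp only [Function.comp_apply, Category.assoc]
    change Function.Bijective (fun g : G ⟶ fs.obj A ⊗ L => F.map g ≫ inv (proj adj A L) ≫ A ◁ τ ≫ (ρ_ A).hom)
    rw [h6]
    exact ((ρ_ A).homToEquiv).bijective.comp h5

end Push

section Main

variable {F : C ⥤ D} [F.LaxMonoidal] {fs' : D' ⥤ C'} {F' : C' ⥤ D'} (adj' : fs' ⊣ F') [fs'.Monoidal]
  [F'.LaxMonoidal] [adj'.IsMonoidal] {gs : D ⥤ D'} {gs' : C ⥤ C'} [gs.Monoidal] [gs'.Monoidal]
  (σ : F ⋙ gs ⟶ gs' ⋙ F') [hσ : NatTrans.IsMonoidal σ]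

omit [gs.Monoidal] [gs'.Monoidal] hσ in
/-- Converse of `bijective_bc`. -/
theorem univAt_bc [gs.LaxMonoidal] [gs'.LaxMonoidal] [NatTrans.IsMonoidal σ] {N M L : C} (p : N ⊗ M ⟶ L) {K : D}
    (τ : F.obj L ⟶ K) {Q' : D'} {T' : C'}
    (u : Q' ⟶ F'.obj T') (τ' : F'.obj (gs'.obj L) ⟶ gs.obj K) (hτ' : σ.app L ≫ τ' = gs.map τ)
    (h₁ : UnivAt (mapP gs' p) T')
    (hu : Function.Bijective (fun ψ : T' ⟶ gs'.obj N => u ≫ F'.map ψ)) (hN : IsIso (σ.app N))
    (h₃ : Function.Bijective (fun φ : T' ⊗ gs'.obj M ⟶ gs'.obj L => F'.map φ ≫ τ'))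
    (h₄ : IsIso ((u ⊗ₘ σ.app M) ≫ μ F' T' (gs'.obj M))) :
    UnivAt (mapP gs (mapP F p ≫ τ)) Q' := by
  have h5 : Function.Bijective (fun φ : T' ⊗ gs'.obj M ⟶ gs'.obj L =>
      ((u ⊗ₘ σ.app M) ≫ μ F' T' (gs'.obj M)) ≫ F'.map φ ≫ τ') :=
    (((asIso ((u ⊗ₘ σ.app M) ≫ μ F' T' (gs'.obj M))).symm.homFromEquiv).bijective).comp h₃
  have h6 := h5.comp h₁
  have h7 : ((fun φ : T' ⊗ gs'.obj M ⟶ gs'.obj L =>
        ((u ⊗ₘ σ.app M) ≫ μ F' T' (gs'.obj M)) ≫ F'.map φ ≫ τ') ∘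
        (fun ψ : T' ⟶ gs'.obj N => (ψ ▷ gs'.obj M) ≫ mapP gs' p)) =
          (fun χ : Q' ⟶ gs.obj (F.obj N) => (χ ▷ gs.obj (F.obj M)) ≫ mapP gs (mapP F p ≫ τ)) ∘
            ((fun t => t ≫ inv (σ.app N)) ∘ (fun ψ : T' ⟶ gs'.obj N => u ≫ F'.map ψ)) := by
    funext ψ
    simp only [Function.comp_apply, Category.assoc]
    have h8 := core_comm σ p u ψ (u ≫ F'.map ψ ≫ inv (σ.app N)) (by simp)
    have h9 : mapP gs (mapP F p ≫ τ) = mapP gs (mapP F p) ≫ σ.app L ≫ τ' := by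
      rw [hτ']
      simp [mapP]
    have h10 := congrArg (· ≫ τ') h8
    simp only [Category.assoc] at h10
    rw [h9]
    exact h10
  rw [h7] at h6
  refine (Function.Bijective.of_comp_iff _ (Function.Bijective.comp ?_ hu)).1 h6
  exact ((asIso (σ.app N)).symm.homToEquiv).bijective

include adj' in
/-- `Hom(Q, gs(dualMap))` is bijective if the universal property holds on `fs' Q ⊗ gs' M`. -/
theorem bijective_map_dualMap (M Md : C) [ExactPairing M Md] (FMd : D) [ExactPairing (F.obj M) FMd] {L : C} {K : D}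
    (τ : F.obj L ⟶ K) (Q Qd : D') [ExactPairing Q Qd]
    (hN : IsIso (σ.app (L ⊗ Md))) (hM : IsIso (σ.app M)) (τ' : F'.obj (gs'.obj L) ⟶ gs.obj K)
    (hτ' : σ.app L ≫ τ' = gs.map τ)
    (h : Function.Bijective (fun φ : fs'.obj Q ⊗ gs'.obj M ⟶ gs'.obj L => F'.map φ ≫ τ')) :
    Function.Bijective (fun x : Q ⟶ gs.obj (F.obj (L ⊗ Md)) => x ≫ gs.map (dualMap F M Md FMd τ)) := by
  have h₄ : IsIso ((adj'.unit.app Q ⊗ₘ σ.app M) ≫ μ F' (fs'.obj Q) (gs'.obj M)) := by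
    rw [unit_tensor_comp adj' Q (B := gs'.obj M) (σ.app M)]
    have h1 : IsIso (proj adj' Q (gs'.obj M)) := isIso_proj adj' Q Qd (gs'.obj M)
    have h2 : IsIso (Q ◁ σ.app M) := inferInstance
    exact IsIso.comp_isIso' h2 h1
  have hu : Function.Bijective (fun ψ : fs'.obj Q ⟶ gs'.obj (L ⊗ Md) => adj'.unit.app Q ≫ F'.map ψ) := by
    have h1 : (fun ψ : fs'.obj Q ⟶ gs'.obj (L ⊗ Md) => adj'.unit.app Q ≫ F'.map ψ) =
        adj'.homEquiv Q (gs'.obj (L ⊗ Md)) := by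
      funext ψ
      rw [Adjunction.homEquiv_unit]
    rw [h1]
    exact Equiv.bijective _
  have h2 := univAt_bc σ (p₀ M Md L) τ (adj'.unit.app Q) τ' hτ' (univAt_mapP gs' M Md _ _) hu hN h h₄
  let _ := Groth.Agent.Dcoh.DualMap.mapPairing gs (F.obj M) FMd
  rw [univAt_iff (gs.obj (F.obj M)) (gs.obj FMd)] at h2
  rw [sharp_mapP] at h2
  have h3 : (fun x : Q ⟶ gs.obj (F.obj (L ⊗ Md)) => x ≫ gs.map (sharp (F.obj M) FMd (mapP F (p₀ M Md L) ≫ τ)) ≫
      δ gs K FMd) = (fun t => t ≫ δ gs K FMd) ∘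
        (fun x : Q ⟶ gs.obj (F.obj (L ⊗ Md)) => x ≫ gs.map (dualMap F M Md FMd τ)) := by
    funext x
    simp only [Function.comp_apply, Category.assoc]
    rfl
  have h4 : Function.Bijective ((fun t => t ≫ δ gs K FMd) ∘
        (fun x : Q ⟶ gs.obj (F.obj (L ⊗ Md)) => x ≫ gs.map (dualMap F M Md FMd τ))) := by
    rw [← h3]
    exact h2
  exact (Function.Bijective.of_comp_iff' ((asIso (δ gs K FMd)).homToEquiv).bijective _).1 h4

end Main

end K353.MonUniv
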