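import Groth.Agent.DEquiv.K353.OnSub

/-!
# Equivalences between full subcategories
-/

set_option autoImplicit false

open CategoryTheory

namespace K353.OnEquiv

open OnSub

universe v₁ v₂ u₁ u₂

variable {C : Type u₁} [Category.{v₁} C] {D : Type u₂} [Category.{v₂} D]
variable {P : ObjectProperty C} {Q : ObjectProperty D}

/-- The restriction of `F` to full subcategories is an equivalence if it has a quasi-inverse on these. -/
theorem isEquivalence_lift {F : C ⥤ D} {G : D ⥤ C} (hF : ∀ X : C, P X → Q (F.obj X))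
    (hG : ∀ Y : D, Q Y → P (G.obj Y)) (e : IsoOn P (F ⋙ G) (𝟭 C)) (e' : IsoOn Q (G ⋙ F) (𝟭 D)) :
    (Q.lift (P.ι ⋙ F) (fun X => hF X.obj X.property)).IsEquivalence := by
  let F' := Q.lift (P.ι ⋙ F) (fun X => hF X.obj X.property)
  let G' := P.lift (Q.ι ⋙ G) (fun Y => hG Y.obj Y.property)
  let i : F' ⋙ G' ≅ 𝟭 _ := Functor.fullyFaithfulCancelRight P.ι e.some
  let j : G' ⋙ F' ≅ 𝟭 _ := Functor.fullyFaithfulCancelRight Q.ι e'.some
  exact (CategoryTheory.Equivalence.mk F' G' i.symm j).isEquivalence_functor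

end K353.OnEquiv
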