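import Mathlib.CategoryTheory.ObjectProperty.FullSubcategory
import Mathlib.CategoryTheory.Whiskering
import Mathlib.CategoryTheory.Equivalence
import Mathlib.CategoryTheory.Adjunction.Basic

/-!
# Isomorphisms of functors on a full subcategory

`IsoOn P F G`: the restrictions of the functors `F`, `G` to the full subcategory of objects satisfying `P` are
isomorphic (as functors).
-/

set_option autoImplicit false

open CategoryTheory

namespace K353.OnSub

universe v₁ v₂ v₃ u₁ u₂ u₃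

variable {C : Type u₁} [Category.{v₁} C] {D : Type u₂} [Category.{v₂} D] {E : Type u₃} [Category.{v₃} E]

/-- The functors `F` and `G` are isomorphic on the full subcategory given by `P`. -/
def IsoOn (P : ObjectProperty C) (F G : C ⥤ D) : Prop := Nonempty (P.ι ⋙ F ≅ P.ι ⋙ G)

variable {P : ObjectProperty C} {Q : ObjectProperty D} {F G H : C ⥤ D}

lemma IsoOn.refl (P : ObjectProperty C) (F : C ⥤ D) : IsoOn P F F := ⟨Iso.refl _⟩

lemma IsoOn.symm (h : IsoOn P F G) : IsoOn P G F := ⟨h.some.symm⟩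

lemma IsoOn.trans (h : IsoOn P F G) (h' : IsoOn P G H) : IsoOn P F H := ⟨h.some ≪≫ h'.some⟩

lemma IsoOn.of_iso (e : F ≅ G) : IsoOn P F G := ⟨Functor.isoWhiskerLeft _ e⟩

lemma IsoOn.of_nonempty (e : Nonempty (F ≅ G)) : IsoOn P F G := ⟨Functor.isoWhiskerLeft _ e.some⟩

/-- A natural transformation which is an isomorphism on the objects of `P`. -/
lemma IsoOn.of_nat (τ : F ⟶ G) (h : ∀ X, P X → IsIso (τ.app X)) : IsoOn P F G := by
  have : ∀ X, IsIso ((Functor.whiskerLeft P.ι τ).app X) := fun X => h X.obj X.property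
  have := NatIso.isIso_of_isIso_app (Functor.whiskerLeft P.ι τ)
  exact ⟨asIso (Functor.whiskerLeft P.ι τ)⟩

/-- A family of maps, natural on `P`, which are isomorphisms on the objects of `P`. -/
lemma IsoOn.of_app (τ : ∀ X : C, F.obj X ⟶ G.obj X) (hn : ∀ (X Y : C) (f : X ⟶ Y), P X → P Y →
    F.map f ≫ τ Y = τ X ≫ G.map f) (h : ∀ X, P X → IsIso (τ X)) : IsoOn P F G := by
  have : ∀ X : P.FullSubcategory, IsIso (τ X.obj) := fun X => h X.obj X.property
  exact ⟨NatIso.ofComponents (fun X => asIso (τ X.obj)) (fun {X Y} f => hn _ _ f.hom X.property Y.property)⟩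

lemma IsoOn.whiskerRight (h : IsoOn P F G) (K : D ⥤ E) : IsoOn P (F ⋙ K) (G ⋙ K) :=
  ⟨Functor.isoWhiskerRight h.some K⟩

/-- Precomposition with a functor mapping `P` to `Q`. -/
lemma IsoOn.whiskerLeft (F : C ⥤ D) (hF : ∀ X, P X → Q (F.obj X)) {K L : D ⥤ E} (h : IsoOn Q K L) :
    IsoOn P (F ⋙ K) (F ⋙ L) :=
  ⟨Functor.isoWhiskerLeft (Q.lift (P.ι ⋙ F) (fun X => hF X.obj X.property)) h.some⟩

lemma IsoOn.congr {F' G' : C ⥤ D} (h : IsoOn P F G) (e : F ≅ F') (e' : G ≅ G') : IsoOn P F' G' :=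
  ((IsoOn.of_iso e.symm).trans h).trans (IsoOn.of_iso e')

lemma IsoOn.mono {P' : ObjectProperty C} (h : IsoOn P F G) (hP : ∀ X, P' X → P X) : IsoOn P' F G :=
  IsoOn.whiskerLeft (𝟭 C) hP h

/-- The values on objects of `P` are isomorphic. -/
lemma IsoOn.app (h : IsoOn P F G) {X : C} (hX : P X) : Nonempty (F.obj X ≅ G.obj X) :=
  ⟨h.some.app ⟨X, hX⟩⟩

end K353.OnSub
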