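import Groth.Agent.DEquiv.K353.Diag
import Groth.Agent.DEquiv.K353.OnEquiv
import Groth.Agent.Dcoh.PerfTens
import Groth.Agent.S1002
import Groth.Agent.S0921

/-!
# Kernels of relative equivalences give equivalences
-/

set_option autoImplicit false

universe u

open CategoryTheory CategoryTheory.Limits AlgebraicGeometry MonoidalCategory

attribute [local instance] HasDerivedCategory.standard

open scoped Groth.Agent.Dcoh.MonCat Groth.Agent.Dcoh.ModD

namespace K353.RelEq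

open Groth.Agent OnSub Calc Conv Diag

variable {S X Y : Scheme.{u}} (a : X ⟶ S) (b : Y ⟶ S)

lemma qc_perf {K : DCoh.D X} (hK : DCoh.IsPerfect K) : qc X K :=
  LoccohB.PerfQCoh.isQCohD_of_isPerfect hK

/-- If the composite kernel is `Δ_* O_X`, the composite functor is the identity of `D_QCoh`. -/
theorem comp_id [Flat a] [QuasiCompact a] [IsSeparated a] [QuasiCompact b] [QuasiSeparated b]
    (K : CochainComplex (pullback a b).Modules ℤ) (K' : CochainComplex (pullback b a).Modules ℤ)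
    (hK : DCoh.IsQCohD (DCoh.toD _ K)) (hK' : DCoh.IsQCohD (DCoh.toD _ K'))
    [DCoh.HasLpull (pullback.fst a b)] [DCoh.HasLTensorCx K] [DCoh.HasRpush (pullback.snd a b)]
    [DCoh.HasLpull (pullback.fst b a)] [DCoh.HasLTensorCx K'] [DCoh.HasRpush (pullback.snd b a)]
    [DCoh.HasLpull (FMK.p12 a b a)] [DCoh.HasRpush (FMK.p13 a b a)]
    [DCoh.HasLTensorCx ((FMK.cxPull (FMK.p23 a b a)).obj K')]
    (e : FMK.diagO a ≅ FMK.conv a b a K ((FMK.cxPull (FMK.p23 a b a)).obj K')) :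
    IsoOn (qc X) (FMK.phi a b K ⋙ FMK.phi b a K') (𝟭 (DCoh.D X)) := by
  have := hasLpull (FMK.p23 a b a)
  have := hasLpull (pullback.fst a a)
  have := hasRpush (pullback.snd a a)
  have : Flat (FMK.p23 a b a) := inferInstance
  obtain ⟨i⟩ := cxPull_iso (FMK.p23 a b a) K'
  let N : CochainComplex (pullback a a).Modules ℤ := DerivedCategory.Q.objPreimage (FMK.diagO a)
  have eN : DCoh.toD _ N ≅ FMK.diagO a := DerivedCategory.Q.objObjPreimageIso (FMK.diagO a)
  have := Dcoh.ModTens.hasLTensorCx N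
  have h1 := phi_comp a b a (Or.inl inferInstance) K K' hK hK' _ i N (eN ≪≫ e)
  exact h1.symm.trans (phi_diag a N eN)

lemma perf_phi [IsProper b] [Flat b] [LocallyOfFinitePresentation b] [IsProper a] [Flat a]
    [LocallyOfFinitePresentation a]
    (K : CochainComplex (pullback a b).Modules ℤ) (hK : DCoh.IsPerfect (DCoh.toD _ K))
    [DCoh.HasLpull (pullback.fst a b)] [DCoh.HasLTensorCx K] [DCoh.HasRpush (pullback.snd a b)]
    (M : DCoh.D X) (hM : DCoh.IsPerfect M) : DCoh.IsPerfect ((FMK.phi a b K).obj M) := by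
  obtain ⟨e⟩ := ltensorCx K
  have h1 := S0921.result (pullback.fst a b) M hM
  have h2 := Dcoh.PerfTens.isPerfect_tensor h1 hK
  exact S1002.result (pullback.snd a b) _ (PerfA.PerfLocal.isPerfect_of_iso (e.app _).symm h2)

lemma qc_phi [QuasiCompact a] [QuasiSeparated a]
    (K : CochainComplex (pullback a b).Modules ℤ) (hK : DCoh.IsQCohD (DCoh.toD _ K))
    [DCoh.HasLpull (pullback.fst a b)] [DCoh.HasLTensorCx K] [DCoh.HasRpush (pullback.snd a b)]
    (M : DCoh.D X) (hM : DCoh.IsQCohD M) : DCoh.IsQCohD ((FMK.phi a b K).obj M) := by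
  obtain ⟨e⟩ := ltensorCx K
  have h2 := qc_tensor _ _ (qc_lpull (pullback.fst a b) M hM) hK
  exact qc_rpush (pullback.snd a b) _ ((qc _).prop_of_iso (e.app _).symm h2)

section Equiv

variable [IsProper a] [Flat a] [LocallyOfFinitePresentation a] [IsProper b] [Flat b] [LocallyOfFinitePresentation b]
  (K : CochainComplex (pullback a b).Modules ℤ)
  [DCoh.HasLpull (pullback.fst a b)] [DCoh.HasLTensorCx K] [DCoh.HasRpush (pullback.snd a b)]
  [DCoh.HasLpull (FMK.p12 a b a)] [DCoh.HasRpush (FMK.p13 a b a)]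
  [∀ L : CochainComplex (FMK.T a b a).Modules ℤ, DCoh.HasLTensorCx L]
  [DCoh.HasLpull (FMK.p12 b a b)] [DCoh.HasRpush (FMK.p13 b a b)]
  [∀ L : CochainComplex (FMK.T b a b).Modules ℤ, DCoh.HasLTensorCx L]
  (hK : FMK.IsRelEquivKernel a b K)

include hK

/-- A quasi-inverse of `Φ_K`. -/
theorem exists_inverse : ∃ G : DCoh.D Y ⥤ DCoh.D X, (∀ M, DCoh.IsQCohD M → DCoh.IsQCohD (G.obj M)) ∧
    (∀ M, DCoh.IsPerfect M → DCoh.IsPerfect (G.obj M)) ∧
    IsoOn (qc X) (FMK.phi a b K ⋙ G) (𝟭 _) ∧ IsoOn (qc Y) (G ⋙ FMK.phi a b K) (𝟭 _) := by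
  obtain ⟨h1, K', h2, ⟨e1⟩, ⟨e2⟩⟩ := hK
  have := hasLpull (pullback.fst b a)
  have := hasRpush (pullback.snd b a)
  have := Dcoh.ModTens.hasLTensorCx K'
  exact ⟨FMK.phi b a K', fun M hM => qc_phi b a K' (qc_perf h2) M hM, fun M hM => perf_phi b a K' h2 M hM,
    comp_id a b K K' (qc_perf h1) (qc_perf h2) e1, comp_id b a K' K (qc_perf h2) (qc_perf h1) e2⟩

theorem isEquivalence_qc (h : ∀ M : DCoh.D X, DCoh.IsQCohD M → DCoh.IsQCohD ((FMK.phi a b K).obj M)) :
    (FMK.phiOn a b K DCoh.IsQCohD DCoh.IsQCohD h).IsEquivalence := by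
  obtain ⟨G, h1, -, e1, e2⟩ := exists_inverse a b K hK
  exact OnEquiv.isEquivalence_lift h h1 e1 e2

theorem isEquivalence_perf (h : ∀ M : DCoh.D X, (DCoh.IsPerfect (X := X)) M → (DCoh.IsPerfect (X := Y)) ((FMK.phi a b K).obj M)) :
    (FMK.phiOn a b K ((DCoh.IsPerfect (X := X))) ((DCoh.IsPerfect (X := Y))) h).IsEquivalence := by
  obtain ⟨G, -, h1, e1, e2⟩ := exists_inverse a b K hK
  exact OnEquiv.isEquivalence_lift (P := (DCoh.IsPerfect (X := X))) (Q := (DCoh.IsPerfect (X := Y))) h h1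
    (e1.mono (fun M hM => qc_perf hM)) (e2.mono (fun M hM => qc_perf hM))

end Equiv

end K353.RelEq
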