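import Groth.Agent.DEquiv.K353.KerAdj
import Groth.Agent.DEquiv.K353.MonUniv
import Groth.Agent.DEquiv.K353.RelEq
import Groth.Prelude.Def_SGA6

/-!
# Adjoints of Fourier–Mukai functors on perfect complexes

* `pushAdjPerf`: if `(L, τ)` is universal for `(f, O_S)`, then `Rf_* ⊣ Lf^*(-) ⊗ L` on perfect complexes (any base);
* `rightAdjPerf`, `leftAdjPerf`: adjoints of `q_*(p^*(-) ⊗ K)` on perfect complexes.
-/

set_option autoImplicit false

universe u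

open CategoryTheory CategoryTheory.Limits AlgebraicGeometry MonoidalCategory

attribute [local instance] HasDerivedCategory.standard

namespace K353.PerfAdj

open Groth.Agent OnSub Calc Conv ASub Ega1.ADualUniv PushAdj PerfB.BCShift
  Dual.H307.MonComp Dual.H307.MonSquare Dual.H307.MonBC Dual.H308 Dcoh
open scoped Groth.Agent.Dcoh.MonCat Groth.Agent.Dcoh.ModD Groth.Agent.Dcoh.MonPull
  Groth.Agent.Dual.H307.MonComp Groth.Agent.Dual.H307.MonSquare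

/-- Perfect complexes. -/
abbrev pf (X : Scheme.{u}) : ObjectProperty (DCoh.D X) := SGA6.perfP X

section Univ

variable {X S : Scheme.{u}}

lemma qc_of_perf {Z : Scheme.{u}} {P : DCoh.D Z} (hP : DCoh.IsPerfect P) : DCoh.IsQCohD P :=
  PerfA.QCohD.isQCohD_of_isPerfect _ hP

/-- **Duality for perfect complexes.** -/
theorem pushAdjPerf (f : X ⟶ S) [DCoh.HasRpush f] [DCoh.HasLpull f] {L : DCoh.D X}
    (h : Univ f (𝟙_ (DCoh.D S)) L) :
    Nonempty (AdjOn (pf X) (pf S) (DCoh.Rpush f) (DCoh.Lpull f ⋙ tensorRight L)) := by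
  obtain ⟨τ, h⟩ := h
  have key : ∀ A : DCoh.D S, DCoh.IsPerfect A → ∃ (Ad : DCoh.D S) (_ : ExactPairing A Ad), ∀ G : DCoh.D X,
      DCoh.IsPerfect G → IsIso (proj (lAdj f) Ad G) ∧
        Function.Bijective (fun φ : (DCoh.Lpull f).obj Ad ⊗ G ⟶ L => (DCoh.Rpush f).map φ ≫ τ) := by
    intro A hA
    obtain ⟨Ad, hAd, ⟨hp⟩⟩ := PerfDual.exists_exactPairing A hA
    obtain ⟨Add, hAdd, ⟨hp'⟩⟩ := PerfDual.exists_exactPairing Ad hAd
    exact ⟨Ad, hp, fun G hG => ⟨isIso_proj (lAdj f) Ad Add G,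
      h.bij _ (GenProd.isQCohD_tensor (S1054.result f _ (qc_of_perf hAd)) (qc_of_perf hG))⟩⟩
  have h1 := MonUniv.adjOn (lAdj f) (pf X) (pf S) L τ
  exact h1 key

end Univ

variable {X Y T : Scheme.{u}}

lemma pf_lpull (f : X ⟶ Y) [DCoh.HasLpull f] (K : DCoh.D Y) (hK : pf Y K) : pf X ((DCoh.Lpull f).obj K) :=
  S0921.result f K hK

lemma pf_tensor {K L : DCoh.D X} (hK : pf X K) (hL : pf X L) : pf X (K ⊗ L) :=
  PerfTens.isPerfect_tensor hK hL

/-- The right adjoint of a Fourier–Mukai functor, on perfect complexes. -/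
theorem rightAdjPerf (p : T ⟶ X) (q : T ⟶ Y) [DCoh.HasLpull p] [DCoh.HasRpush p]
    [DCoh.HasLpull q] [DCoh.HasRpush q] (K Kd W M : DCoh.D T) [ExactPairing K Kd] (hK : pf T K) (hKd : pf T Kd)
    (hW : pf T W) (h : Nonempty (AdjOn (pf T) (pf Y) (DCoh.Rpush q) (DCoh.Lpull q ⋙ tensorRight W)))
    (e : M ≅ W ⊗ Kd) : Nonempty (AdjOn (pf X) (pf Y) (fm p q K) (fm q p M)) := by
  obtain ⟨h⟩ := h
  have a1 : AdjOn (pf X) (pf T) (DCoh.Lpull p) (DCoh.Rpush p) := AdjOn.ofAdj (Dcoh.DerPull.lpullAdj p) _ _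
  have a2 : AdjOn (pf T) (pf T) (tensorRight K) (tensorRight Kd) := AdjOn.ofAdj (tensorRightAdjunction K Kd) _ _
  have a3 := (a1.comp a2 (pf_lpull p) (fun Z hZ => pf_tensor hZ hKd)).comp h
    (fun A hA => pf_tensor (pf_lpull p A hA) hK) (fun Z hZ => pf_tensor (pf_lpull q Z hZ) hW)
  obtain ⟨i⟩ := tensorRight_comp W Kd
  obtain ⟨j⟩ := tensorRight_congr e.symm
  exact ⟨a3.congrRight (Functor.isoWhiskerLeft (pf Y).ι (Functor.isoWhiskerLeft (DCoh.Lpull q)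
    (Functor.isoWhiskerRight (i ≪≫ j) (DCoh.Rpush p))))⟩

/-- The left adjoint of `Lp^*`, on perfect complexes. -/
theorem pullLeftAdjPerf (p : T ⟶ X) [DCoh.HasLpull p] [DCoh.HasRpush p] (W W' : DCoh.D T)
    (hW : pf T W) (u : W ⊗ W' ≅ 𝟙_ (DCoh.D T))
    (h : Nonempty (AdjOn (pf T) (pf X) (DCoh.Rpush p) (DCoh.Lpull p ⋙ tensorRight W))) :
    Nonempty (AdjOn (pf T) (pf X) (tensorRight W ⋙ DCoh.Rpush p) (DCoh.Lpull p)) := by
  obtain ⟨h⟩ := h
  obtain ⟨a0⟩ := KerAdj.tensorInv W W' u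
  have a1 : AdjOn (pf T) (pf T) (tensorRight W) (tensorRight W') := AdjOn.ofAdj a0 _ _
  have a2 := a1.comp h (fun Z hZ => pf_tensor hZ hW) (fun Z hZ => pf_tensor (pf_lpull p Z hZ) hW)
  obtain ⟨i⟩ := tensorRight_comp W W'
  obtain ⟨j⟩ := tensorRight_congr u
  exact ⟨a2.congrRight (Functor.isoWhiskerLeft (pf X).ι (Functor.isoWhiskerLeft (DCoh.Lpull p)
    (i ≪≫ j ≪≫ rightUnitorNatIso (DCoh.D T)) ≪≫ Functor.rightUnitor _))⟩

/-- The left adjoint of a Fourier–Mukai functor, on perfect complexes. -/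
theorem leftAdjPerf (p : T ⟶ X) (q : T ⟶ Y) [DCoh.HasLpull p] [DCoh.HasRpush p]
    [DCoh.HasLpull q] [DCoh.HasRpush q] (K Kd W W' M : DCoh.D T) [ExactPairing K Kd]
    (hK : pf T K) (hKd : pf T Kd) (hW : pf T W) (u : W ⊗ W' ≅ 𝟙_ (DCoh.D T))
    (h : Nonempty (AdjOn (pf T) (pf X) (DCoh.Rpush p) (DCoh.Lpull p ⋙ tensorRight W)))
    (e : M ≅ Kd ⊗ W) : Nonempty (AdjOn (pf Y) (pf X) (fm q p M) (fm p q K)) := by
  obtain ⟨h⟩ := pullLeftAdjPerf p W W' hW u h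
  have a1 : AdjOn (pf Y) (pf T) (DCoh.Lpull q) (DCoh.Rpush q) := AdjOn.ofAdj (Dcoh.DerPull.lpullAdj q) _ _
  let := Fixpt.H313.DX.brDX T
  have hs : ExactPairing Kd K := BraidedCategory.exactPairing_swap K Kd
  have a2 : AdjOn (pf T) (pf T) (tensorRight Kd) (tensorRight K) := AdjOn.ofAdj (tensorRightAdjunction Kd K) _ _
  have a3 := (a1.comp a2 (pf_lpull q) (fun Z hZ => pf_tensor hZ hK)).comp h
    (fun A hA => pf_tensor (pf_lpull q A hA) hKd) (fun Z hZ => pf_lpull p Z hZ)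
  obtain ⟨i⟩ := tensorRight_comp Kd W
  obtain ⟨j⟩ := tensorRight_congr e.symm
  exact ⟨a3.congrLeft (Functor.isoWhiskerLeft (pf Y).ι (Functor.isoWhiskerLeft (DCoh.Lpull q)
    (Functor.isoWhiskerRight (i ≪≫ j) (DCoh.Rpush p))))⟩

end K353.PerfAdj
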