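import Groth.Agent.DEquiv.K353.AdjOn
import Groth.Agent.DEquiv.K353.Diag
import Groth.Agent.Dual.H307.BcGen
import Groth.Agent.S3658
import Groth.Agent.S1766

/-!
# The right adjoint of `Rp_*` for `p` proper, flat and of finite presentation

If `(W, τ)` is universal for `(p, O_X)`, then `Rp_* ⊣ Lp^*(-) ⊗ W` on `D_QCoh`; base change of universal pairs.
-/

set_option autoImplicit false

universe u

open CategoryTheory CategoryTheory.Limits AlgebraicGeometry MonoidalCategory

attribute [local instance] HasDerivedCategory.standard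

open scoped Groth.Agent.Dcoh.MonCat Groth.Agent.Dcoh.ModD

namespace K353.PushAdj

open Groth.Agent OnSub Calc Conv ASub Ega1.ADualUniv

variable {X Y T S : Scheme.{u}}

/-- The unit of `D(O_X)` is `O_X` in degree `0`. -/
noncomputable abbrev uI (X : Scheme.{u}) : DCoh.inD X (Coh.structureModule X) ≅ 𝟙_ (DCoh.D X) := Dcoh.DualX.unitIso X

lemma qc_unit (X : Scheme.{u}) : qc X (𝟙_ (DCoh.D X)) := Dual.H379.DQMon.isQCohD_unit

/-- `Rp_* ⊣ Lp^*(-) ⊗ W` on `D_QCoh`. -/
theorem pushAdj [CompactSpace X] [QuasiSeparatedSpace X] (p : T ⟶ X) [IsProper p] [Flat p]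
    [LocallyOfFinitePresentation p] [DCoh.HasRpush p] [DCoh.HasLpull p] (W : DCoh.D T)
    (hW : Univ p (𝟙_ (DCoh.D X)) W) :
    Nonempty (AdjOn (qc T) (qc X) (DCoh.Rpush p) (DCoh.Lpull p ⋙ tensorRight W)) := by
  have : CompactSpace T := QuasiCompact.compactSpace_of_compactSpace p
  have : QuasiSeparatedSpace T := quasiSeparatedSpace_of_quasiSeparated p
  have hf : DCoh.RpushPreservesQCoh p := fun K hK => qc_rpush p K hK
  have hl : (DCoh.RpushQ p hf).IsLeftAdjoint := S1766.result T X p (fun K hK => qc_rpush p K hK)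
  let a := (DCoh.RpushQ p hf).rightAdjoint
  let adj : DCoh.RpushQ p hf ⊣ a := Adjunction.ofIsLeftAdjoint _
  let O : DCoh.DQCoh X := ⟨𝟙_ (DCoh.D X), qc_unit X⟩
  obtain ⟨w⟩ := hW.unique ⟨_, isUniv_of_adj (h := fun K hK => hf K hK) adj O⟩
  let E := DerivedCategory.Q.objPreimage (a.obj O).obj
  let eE : DCoh.toD T E ≅ (a.obj O).obj := DerivedCategory.Q.objObjPreimageIso _
  have : DCoh.HasLTensorCx E := Dcoh.ModTens.hasLTensorCx E
  obtain ⟨i⟩ := S3658.result T X p hf a adj O ⟨(uI X).symm⟩ E ⟨eE⟩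
  obtain ⟨j⟩ := ltensorCx E
  obtain ⟨k⟩ := tensorRight_congr (eE ≪≫ w.symm)
  exact ⟨ofLift (fun K => hf K.obj K.property) adj
    (i ≪≫ Functor.isoWhiskerLeft _ (Functor.isoWhiskerLeft (DCoh.Lpull p) (j ≪≫ k)))⟩

/-- Base change of universal pairs for the structure sheaf. -/
theorem univ_unit_bc {X' Y' : Scheme.{u}} {f : X ⟶ Y} {g : Y' ⟶ Y} {f' : X' ⟶ Y'} {g' : X' ⟶ X}
    [CompactSpace Y] [QuasiSeparatedSpace Y] [CompactSpace Y'] [QuasiSeparatedSpace Y']
    [IsProper f] [Flat f] [LocallyOfFinitePresentation f] (hsq : IsPullback g' f' f g)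
    [DCoh.HasRpush f] [DCoh.HasRpush f'] [DCoh.HasLpull g'] {L : DCoh.D X}
    (h : Univ f (𝟙_ (DCoh.D Y)) L) : Univ f' (𝟙_ (DCoh.D Y')) ((DCoh.Lpull g').obj L) := by
  have : CompactSpace X := QuasiCompact.compactSpace_of_compactSpace f
  have : QuasiSeparatedSpace X := quasiSeparatedSpace_of_quasiSeparated f
  have : IsProper f' := MorphismProperty.of_isPullback hsq inferInstance
  have : CompactSpace X' := QuasiCompact.compactSpace_of_compactSpace f'
  have : QuasiSeparatedSpace X' := quasiSeparatedSpace_of_quasiSeparated f'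
  have := hasLpull g
  have h1 := Dual.H307.BcGen.univ_bc (Or.inl inferInstance) hsq (fun P hP => S1002.result f P hP) (qc_unit Y) h
  let := Dual.H379.DQMon.lpullMon g
  exact h1.of_iso_right (Functor.Monoidal.εIso (DCoh.Lpull g)).symm

end K353.PushAdj
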