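import Groth.Agent.DEquiv.K353.ConvPull
import Groth.Agent.DEquiv.K353.RelEq
import Groth.Agent.Dual.H353.DiagBC

/-!
# Base change of kernels of relative equivalences
-/

set_option autoImplicit false

universe u

open CategoryTheory CategoryTheory.Limits AlgebraicGeometry MonoidalCategory

attribute [local instance] HasDerivedCategory.standard

open scoped Groth.Agent.Dcoh.MonCat Groth.Agent.Dcoh.ModD

namespace K353.RelEqBC

open Groth.Agent OnSub Calc Conv Diag ConvPull RelEq

variable {S S' X Y : Scheme.{u}} (a : X ⟶ S) (b : Y ⟶ S) (g : S' ⟶ S)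

/-- The base change of `Δ_* O_X`. -/
theorem diagO_pull [Flat a] [IsSeparated a] [DCoh.HasLpull (bm a a g)] :
    Nonempty ((DCoh.Lpull (bm a a g)).obj (FMK.diagO a) ≅ FMK.diagO (pullback.snd a g)) := by
  have hY : IsPullback (bm a a g) (pullback.fst (pullback.snd a g) (pullback.snd a g) ≫ pullback.snd a g)
      (pullback.fst a a ≫ a) g :=
    (bm_isPullback_fst a a g).paste_vert (IsPullback.of_hasPullback a g)
  have hZ : IsPullback (pullback.fst a g) (pullback.diagonal (pullback.snd a g)) (pullback.diagonal a)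
      (bm a a g) := by
    refine IsPullback.of_bot ?_ ?_ (bm_isPullback_fst a a g)
    · rw [pullback.diagonal_fst, pullback.diagonal_fst]
      exact IsPullback.of_vert_isIso ⟨by rw [Category.comp_id, Category.id_comp]⟩
    · apply pullback.hom_ext
      · rw [Category.assoc, Category.assoc, pullback.diagonal_fst, bm_fst, pullback.diagonal_fst_assoc,
          Category.comp_id]
      · rw [Category.assoc, Category.assoc, pullback.diagonal_snd, bm_snd, pullback.diagonal_snd_assoc,
          Category.comp_id]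
  have f1 : Flat (pullback.diagonal a ≫ pullback.fst a a ≫ a) := by
    rw [pullback.diagonal_fst_assoc]
    infer_instance
  have b1 : PreservesFiniteColimits (Scheme.Modules.pushforward (pullback.diagonal a)) :=
    Sga67.ClosedPush.preservesFiniteColimits_pushforward _
  have b2 : PreservesFiniteColimits (Scheme.Modules.pushforward (pullback.diagonal (pullback.snd a g))) :=
    Sga67.ClosedPush.preservesFiniteColimits_pushforward _
  obtain ⟨e⟩ := Dual.H353.DiagBC.nonempty_iso (pullback.diagonal a) (pullback.fst a a ≫ a) hY hZ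
  exact ⟨(DCoh.Lpull (bm a a g)).mapIso
      ((Dual.H353.Arrow.pushSingle (pullback.diagonal a) 0).app (Coh.structureModule X)).symm ≪≫ e ≪≫
    (Dual.H353.Arrow.pushSingle (pullback.diagonal (pullback.snd a g)) 0).app (Coh.structureModule _)⟩

/-- One half of the base change. -/
theorem half [Flat a] [QuasiCompact a] [IsSeparated a] [Flat b] [QuasiCompact b] [QuasiSeparated b]
    (K : CochainComplex (pullback a b).Modules ℤ) (K' : CochainComplex (pullback b a).Modules ℤ)
    (hK : DCoh.IsQCohD (DCoh.toD _ K)) (hK' : DCoh.IsQCohD (DCoh.toD _ K'))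
    [DCoh.HasLpull (FMK.p12 a b a)] [DCoh.HasRpush (FMK.p13 a b a)]
    [DCoh.HasLTensorCx ((FMK.cxPull (FMK.p23 a b a)).obj K')]
    (e : FMK.diagO a ≅ FMK.conv a b a K ((FMK.cxPull (FMK.p23 a b a)).obj K'))
    [DCoh.HasLpull (bm a b g)] [DCoh.HasLpull (bm b a g)]
    (K₁ : CochainComplex (pullback (pullback.snd a g) (pullback.snd b g)).Modules ℤ)
    (eK : DCoh.toD _ K₁ ≅ (DCoh.Lpull (bm a b g)).obj (DCoh.toD _ K))
    (K₁' : CochainComplex (pullback (pullback.snd b g) (pullback.snd a g)).Modules ℤ)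
    (eK' : DCoh.toD _ K₁' ≅ (DCoh.Lpull (bm b a g)).obj (DCoh.toD _ K'))
    [DCoh.HasLpull (FMK.p12 (pullback.snd a g) (pullback.snd b g) (pullback.snd a g))]
    [DCoh.HasRpush (FMK.p13 (pullback.snd a g) (pullback.snd b g) (pullback.snd a g))]
    [DCoh.HasLTensorCx ((FMK.cxPull (FMK.p23 (pullback.snd a g) (pullback.snd b g) (pullback.snd a g))).obj K₁')] :
    Nonempty (FMK.diagO (pullback.snd a g) ≅ FMK.conv (pullback.snd a g) (pullback.snd b g) (pullback.snd a g) K₁
      ((FMK.cxPull (FMK.p23 (pullback.snd a g) (pullback.snd b g) (pullback.snd a g))).obj K₁')) := by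
  have := hasLpull (FMK.p23 a b a)
  have := hasLpull (bm a a g)
  have := hasLpull (FMK.p23 (pullback.snd a g) (pullback.snd b g) (pullback.snd a g))
  obtain ⟨i⟩ := cxPull_iso (FMK.p23 a b a) K'
  obtain ⟨j⟩ := cxPull_iso (FMK.p23 (pullback.snd a g) (pullback.snd b g) (pullback.snd a g)) K₁'
  obtain ⟨d⟩ := diagO_pull a g
  obtain ⟨t⟩ := conv_pull a b a g (Or.inl inferInstance) K (DCoh.toD _ K') hK hK' _ i K₁ eK _
    (j ≪≫ (DCoh.Lpull (FMK.p23 (pullback.snd a g) (pullback.snd b g) (pullback.snd a g))).mapIso eK')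
  exact ⟨d.symm ≪≫ (DCoh.Lpull (bm a a g)).mapIso e ≪≫ t⟩

theorem isRelEquivKernel_baseChange [IsProper a] [Flat a] [IsProper b] [Flat b]
    (K : CochainComplex (pullback a b).Modules ℤ)
    [DCoh.HasLpull (FMK.p12 a b a)] [DCoh.HasRpush (FMK.p13 a b a)]
    [∀ L : CochainComplex (FMK.T a b a).Modules ℤ, DCoh.HasLTensorCx L]
    [DCoh.HasLpull (FMK.p12 b a b)] [DCoh.HasRpush (FMK.p13 b a b)]
    [∀ L : CochainComplex (FMK.T b a b).Modules ℤ, DCoh.HasLTensorCx L]
    (hK : FMK.IsRelEquivKernel a b K)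
    [DCoh.HasLpull (FMK.p12 (pullback.snd a g) (pullback.snd b g) (pullback.snd a g))]
    [DCoh.HasRpush (FMK.p13 (pullback.snd a g) (pullback.snd b g) (pullback.snd a g))]
    [∀ L : CochainComplex (FMK.T (pullback.snd a g) (pullback.snd b g) (pullback.snd a g)).Modules ℤ,
      DCoh.HasLTensorCx L]
    [DCoh.HasLpull (FMK.p12 (pullback.snd b g) (pullback.snd a g) (pullback.snd b g))]
    [DCoh.HasRpush (FMK.p13 (pullback.snd b g) (pullback.snd a g) (pullback.snd b g))]
    [∀ L : CochainComplex (FMK.T (pullback.snd b g) (pullback.snd a g) (pullback.snd b g)).Modules ℤ,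
      DCoh.HasLTensorCx L]
    [DCoh.HasLpull (bm a b g)]
    (K₁ : CochainComplex (pullback (pullback.snd a g) (pullback.snd b g)).Modules ℤ)
    (eK : DCoh.toD _ K₁ ≅ (DCoh.Lpull (bm a b g)).obj (DCoh.toD _ K)) :
    FMK.IsRelEquivKernel (pullback.snd a g) (pullback.snd b g) K₁ := by
  obtain ⟨h1, K', h2, ⟨e1⟩, ⟨e2⟩⟩ := hK
  have := hasLpull (bm b a g)
  let K₁' : CochainComplex (pullback (pullback.snd b g) (pullback.snd a g)).Modules ℤ :=
    DerivedCategory.Q.objPreimage ((DCoh.Lpull (bm b a g)).obj (DCoh.toD _ K'))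
  have eK' : DCoh.toD _ K₁' ≅ (DCoh.Lpull (bm b a g)).obj (DCoh.toD _ K') :=
    DerivedCategory.Q.objObjPreimageIso _
  exact ⟨PerfA.PerfLocal.isPerfect_of_iso eK.symm (S0921.result _ _ h1), K₁',
    PerfA.PerfLocal.isPerfect_of_iso eK'.symm (S0921.result _ _ h2),
    half a b g K K' (qc_perf h1) (qc_perf h2) e1 K₁ eK K₁' eK',
    half b a g K' K (qc_perf h2) (qc_perf h1) e2 K₁' eK' K₁ eK⟩

end K353.RelEqBC
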