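import Groth.Agent.DEquiv.K353.PerfAdj
import Groth.Agent.Dual3.K477.RelUniv
import Groth.Agent.Dual3.K477.RelDualSm
import Groth.Agent.AbVar.K512.FMPull
import Groth.Agent.Dual.H328.WUniv
import Groth.Agent.Dual.H339.OmegaRank
import Groth.Agent.Dual.H307.Main
import Groth.Agent.Ega3B.NearFibre
import Groth.Agent.PerfC.RHomPush
import Groth.Agent.S3646
import Groth.Agent.S3649
import Groth.Prelude.Def_Canon

/-!
# Duality for smooth proper morphisms over an arbitrary base, on perfect complexes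
-/

set_option autoImplicit false

universe u

open CategoryTheory CategoryTheory.Limits AlgebraicGeometry MonoidalCategory

attribute [local instance] HasDerivedCategory.standard

open scoped Groth.Agent.Dcoh.MonCat Groth.Agent.Dcoh.ModD

namespace K353.SmAdj

open Groth.Agent OnSub Calc Conv ASub Ega1.ADualUniv PushAdj PerfAdj KerAdj Diag

variable {X Y S T : Scheme.{u}}

/-- `A ⊗^L G ≅ A ⊗ G[0]`. -/
theorem ltensorMod_iso (G : X.Modules) [DCoh.HasLTensorMod G] (A : DCoh.D X) :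
    Nonempty ((DCoh.LTensorMod G).obj A ≅ A ⊗ DCoh.inD X G) := by
  let := Fixpt.H313.DX.brDX X
  obtain ⟨P, hP, ⟨e⟩⟩ := PerfA.TensDev.exists_rep A
  have : DCoh.HasLTensorCx P := Dcoh.ModTens.hasLTensorCx P
  obtain ⟨i⟩ := PerfC.RHomPush.nonempty_inD_iso G hP
  obtain ⟨j⟩ := ltensorCx P
  exact ⟨(DCoh.LTensorMod G).mapIso e.symm ≪≫ i.symm ≪≫ j.app (DCoh.inD X G) ≪≫ β_ _ _ ≪≫
    whiskerRightIso e (DCoh.inD X G)⟩

/-- An invertible module is an invertible object of `D(O_X)`. -/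
theorem inD_inv {M : X.Modules} (hM : PicF.IsInvertible M) :
    ∃ L' : DCoh.D X, Nonempty (DCoh.inD X M ⊗ L' ≅ 𝟙_ (DCoh.D X)) := by
  obtain ⟨N, hN, ⟨e⟩⟩ := Grpsch.PicGrp.exists_inverse hM
  have := PerfB.TensInv.hasLTensorMod_of_isInvertible hM
  have := PerfB.TensInv.hasLTensorMod_of_isInvertible hN
  obtain ⟨i⟩ := ltensorMod_iso N (DCoh.inD X M)
  obtain ⟨j⟩ := ltensorMod_iso M (DCoh.inD X (Coh.structureModule X))
  refine ⟨DCoh.inD X N, ⟨i.symm ≪≫ (DCoh.LTensorMod N).mapIso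
    ((λ_ _).symm ≪≫ whiskerRightIso (uI X).symm _ ≪≫ j.symm) ≪≫ (K512.FMIso.ltInv hM hN e).app _ ≪≫ uI X⟩⟩

/-- `A ⊗ B[n] ≅ (A ⊗ B)[n]`. -/
theorem tensor_shift (A B : DCoh.D X) (n : ℤ) : Nonempty ((A ⊗ B)⟦n⟧ ≅ A ⊗ B⟦n⟧) := by
  let := Fixpt.H313.DX.brDX X
  obtain ⟨i⟩ := Dual.H307.Main.nonempty_tensor_shift B A n
  exact ⟨(shiftFunctor _ n).mapIso (β_ A B) ≪≫ i ≪≫ β_ _ _⟩

/-- Shifts of invertible objects are invertible. -/
theorem inv_shift {L L' : DCoh.D X} (u : L ⊗ L' ≅ 𝟙_ (DCoh.D X)) (n : ℤ) :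
    Nonempty (L⟦n⟧ ⊗ L'⟦-n⟧ ≅ 𝟙_ (DCoh.D X)) := by
  obtain ⟨i⟩ := Dual.H307.Main.nonempty_tensor_shift L (L'⟦-n⟧) n
  obtain ⟨j⟩ := tensor_shift L L' (-n)
  exact ⟨i.symm ≪≫ (shiftFunctor _ n).mapIso (j.symm ≪≫ (shiftFunctor _ (-n)).mapIso u) ≪≫
    (shiftFunctorCompIsoId (DCoh.D X) (-n) n (by lia)).app _⟩

lemma isInvertible_top (n : ℕ) (f : X ⟶ S) [IsSeparated f] [SmoothOfRelativeDimension n f] {ω : X.Modules}
    (hω : Canon.IsTopDiff f n ω) : PicF.IsInvertible ω :=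
  Dual.H328.WUniv.isInvertible_extPow (Dual.H339.OmegaRank.isFinLocFreeOfRank_omega n f) hω

/-- Duality for a base change of a smooth proper morphism. -/
theorem univ_smooth {X' S' : Scheme.{u}} (n : ℕ) (f : X ⟶ S) [IsProper f] [SmoothOfRelativeDimension n f]
    {ω : X.Modules} (hω : Canon.IsTopDiff f n ω) {g : S' ⟶ S} {f' : X' ⟶ S'} {g' : X' ⟶ X}
    (hsq : IsPullback g' f' f g) [DCoh.HasRpush f'] [DCoh.HasLpull g'] :
    Univ f' (𝟙_ (DCoh.D S')) ((DCoh.Lpull g').obj ((DCoh.inD X ω)⟦(n : ℤ)⟧)) := by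
  have : Smooth f := SmoothOfRelativeDimension.smooth n f
  have : IsProper f' := MorphismProperty.of_isPullback hsq inferInstance
  have : MorphismProperty.IsStableUnderBaseChange (@SmoothOfRelativeDimension.{u} n) :=
    smoothOfRelativeDimension_isStableUnderBaseChange n
  have : SmoothOfRelativeDimension n f' := MorphismProperty.of_isPullback hsq inferInstance
  have : Smooth f' := SmoothOfRelativeDimension.smooth n f'
  have := hasLpull (pullback.fst f f)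
  have := hasLpull (pullback.fst f' f')
  have := hasLpull f'
  obtain ⟨K, hK⟩ := S3646.result X S f
  obtain ⟨e⟩ := K477.RelDualSm.nonempty_iso n f K hK ω hω
  have hK' := S3649.result X S X' S' f g f' g' hsq K hK
  obtain ⟨τ, hτ, -⟩ := K477.RelUniv.exists_isUniv f' hK' (uI S')
  exact Univ.of_iso_left ⟨τ, hτ⟩ ((DCoh.Lpull g').mapIso e) (qc_lpull g' _
    (PerfA.QCohD.isQCohD_of_isPerfect _ (PerfA.PerfLocal.isPerfect_shift
      (PerfA.PerfLocal.isPerfect_inD_of_isFinLocFree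
        (Ega3B.NearFibre.isFinLocFree_of_isInvertible (isInvertible_top n f hω))) _)))

/-- The kernel `(K^∨ ⊗ q^* ω)[n]`. -/
theorem kernel_iso (q : T ⟶ Y) [Flat q] [DCoh.HasLpull q] {ω : Y.Modules} (hω : PicF.IsInvertible ω) (n : ℕ)
    (K : CochainComplex T.Modules ℤ) [DCoh.HasLTensorCx K] [DCoh.HasRSheafHom K]
    (Kd : DCoh.D T) [ExactPairing (DCoh.toD T K) Kd]
    [DCoh.HasLTensorMod ((Scheme.Modules.pullback q).obj ω)] :
    Nonempty ((shiftFunctor (DCoh.D T) (n : ℤ)).obj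
      ((DCoh.LTensorMod ((Scheme.Modules.pullback q).obj ω)).obj
        ((DCoh.RSheafHom K).obj (DCoh.inD _ (Coh.structureModule T)))) ≅
      Kd ⊗ (DCoh.Lpull q).obj ((DCoh.inD Y ω)⟦(n : ℤ)⟧)) := by
  obtain ⟨e1⟩ := rhom_unit K Kd
  obtain ⟨e2⟩ := ltensorMod_iso ((Scheme.Modules.pullback q).obj ω) Kd
  obtain ⟨e3⟩ := tensor_shift Kd (DCoh.inD T ((Scheme.Modules.pullback q).obj ω)) n
  obtain ⟨e4⟩ := Dual.H307.Main.nonempty_lpull_shift q (DCoh.inD Y ω) n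
  let e5 := K512.FMPull.pullInD q hω
  exact ⟨(shiftFunctor (DCoh.D T) (n : ℤ)).mapIso ((DCoh.LTensorMod _).mapIso e1 ≪≫ e2) ≪≫ e3 ≪≫
    whiskerLeftIso Kd ((shiftFunctor (DCoh.D T) (n : ℤ)).mapIso e5.symm ≪≫ e4)⟩

/-- The right adjoint of `Φ_K`. -/
theorem right_smooth (a : X ⟶ S) (b : Y ⟶ S) (m n : ℕ)
    [SmoothOfRelativeDimension m a] [IsProper a] [SmoothOfRelativeDimension n b] [IsProper b]
    (ω : X.Modules) (hω : Canon.IsTopDiff a m ω)
    (K : CochainComplex (pullback a b).Modules ℤ) (hK : DCoh.IsPerfect (DCoh.toD _ K))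
    [DCoh.HasLpull (pullback.fst a b)] [DCoh.HasLpull (pullback.snd a b)]
    [DCoh.HasRpush (pullback.fst a b)] [DCoh.HasRpush (pullback.snd a b)]
    [DCoh.HasLTensorCx K] [DCoh.HasRSheafHom K]
    [DCoh.HasLTensorMod ((Scheme.Modules.pullback (pullback.fst a b)).obj ω)]
    (KR : CochainComplex (pullback a b).Modules ℤ) [DCoh.HasLTensorCx KR]
    (hKR : Nonempty (DCoh.toD _ KR ≅ (shiftFunctor (DCoh.D (pullback a b)) (m : ℤ)).obj
      ((DCoh.LTensorMod ((Scheme.Modules.pullback (pullback.fst a b)).obj ω)).obj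
        ((DCoh.RSheafHom K).obj (DCoh.inD _ (Coh.structureModule (pullback a b))))))) :
    Nonempty (AdjOn (pf X) (pf Y) (FMK.phi a b K)
      (DCoh.Lpull (pullback.snd a b) ⋙ DCoh.LTensorCx KR ⋙ DCoh.Rpush (pullback.fst a b))) := by
  have : Smooth a := SmoothOfRelativeDimension.smooth m a
  have : Smooth b := SmoothOfRelativeDimension.smooth n b
  have hi := isInvertible_top m a hω
  have hp : DCoh.IsPerfect (DCoh.inD X ω) := PerfA.PerfLocal.isPerfect_inD_of_isFinLocFree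
        (Ega3B.NearFibre.isFinLocFree_of_isInvertible hi)
  have hU := univ_smooth m a hω (IsPullback.of_hasPullback a b)
  have hA := pushAdjPerf (pullback.snd a b) hU
  obtain ⟨Kd, hKd, ⟨hpr⟩⟩ := Dcoh.PerfDual.exists_exactPairing (DCoh.toD _ K) hK
  obtain ⟨k⟩ := hKR
  obtain ⟨e⟩ := kernel_iso (pullback.fst a b) hi m K Kd
  let := Fixpt.H313.DX.brDX (pullback a b)
  obtain ⟨i⟩ := fm_cx (pullback.fst a b) (pullback.snd a b) K
  obtain ⟨j⟩ := fm_cx (pullback.snd a b) (pullback.fst a b) KR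
  obtain ⟨h⟩ := rightAdjPerf (pullback.fst a b) (pullback.snd a b) (DCoh.toD _ K) Kd _ (DCoh.toD _ KR) hK hKd
    (pf_lpull _ _ (PerfA.PerfLocal.isPerfect_shift hp _)) hA (k ≪≫ e ≪≫ β_ _ _)
  exact ⟨(h.congrLeft (Functor.isoWhiskerLeft _ i.symm)).congrRight (Functor.isoWhiskerLeft _ j.symm)⟩

/-- The left adjoint of `Φ_K`. -/
theorem left_smooth (a : X ⟶ S) (b : Y ⟶ S) (m n : ℕ)
    [SmoothOfRelativeDimension m a] [IsProper a] [SmoothOfRelativeDimension n b] [IsProper b]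
    (ω : Y.Modules) (hω : Canon.IsTopDiff b n ω)
    (K : CochainComplex (pullback a b).Modules ℤ) (hK : DCoh.IsPerfect (DCoh.toD _ K))
    [DCoh.HasLpull (pullback.fst a b)] [DCoh.HasLpull (pullback.snd a b)]
    [DCoh.HasRpush (pullback.fst a b)] [DCoh.HasRpush (pullback.snd a b)]
    [DCoh.HasLTensorCx K] [DCoh.HasRSheafHom K]
    [DCoh.HasLTensorMod ((Scheme.Modules.pullback (pullback.snd a b)).obj ω)]
    (KL : CochainComplex (pullback a b).Modules ℤ) [DCoh.HasLTensorCx KL]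
    (hKL : Nonempty (DCoh.toD _ KL ≅ (shiftFunctor (DCoh.D (pullback a b)) (n : ℤ)).obj
      ((DCoh.LTensorMod ((Scheme.Modules.pullback (pullback.snd a b)).obj ω)).obj
        ((DCoh.RSheafHom K).obj (DCoh.inD _ (Coh.structureModule (pullback a b))))))) :
    Nonempty (AdjOn (pf Y) (pf X)
      (DCoh.Lpull (pullback.snd a b) ⋙ DCoh.LTensorCx KL ⋙ DCoh.Rpush (pullback.fst a b)) (FMK.phi a b K)) := by
  have : Smooth a := SmoothOfRelativeDimension.smooth m a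
  have : Smooth b := SmoothOfRelativeDimension.smooth n b
  have hi := isInvertible_top n b hω
  have hp : DCoh.IsPerfect (DCoh.inD Y ω) := PerfA.PerfLocal.isPerfect_inD_of_isFinLocFree
        (Ega3B.NearFibre.isFinLocFree_of_isInvertible hi)
  have hU := univ_smooth n b hω (IsPullback.of_hasPullback a b).flip
  have hA := pushAdjPerf (pullback.fst a b) hU
  obtain ⟨L', ⟨u⟩⟩ := inD_inv hi
  obtain ⟨u'⟩ := inv_shift u n
  obtain ⟨v⟩ := lpull_inv (pullback.snd a b) u'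
  obtain ⟨Kd, hKd, ⟨hpr⟩⟩ := Dcoh.PerfDual.exists_exactPairing (DCoh.toD _ K) hK
  obtain ⟨k⟩ := hKL
  obtain ⟨e⟩ := kernel_iso (pullback.snd a b) hi n K Kd
  obtain ⟨i⟩ := fm_cx (pullback.fst a b) (pullback.snd a b) K
  obtain ⟨j⟩ := fm_cx (pullback.snd a b) (pullback.fst a b) KL
  obtain ⟨h⟩ := leftAdjPerf (pullback.fst a b) (pullback.snd a b) (DCoh.toD _ K) Kd _ _ (DCoh.toD _ KL) hK hKd
    (pf_lpull _ _ (PerfA.PerfLocal.isPerfect_shift hp _)) v hA (k ≪≫ e)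
  exact ⟨(h.congrLeft (Functor.isoWhiskerLeft _ j.symm)).congrRight (Functor.isoWhiskerLeft _ i.symm)⟩

end K353.SmAdj
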