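import Groth.Agent.DEquiv.K353.DModC
import Mathlib.Algebra.Homology.DerivedCategory.SingleTriangle
import Mathlib.Algebra.Homology.ShortComplex.ModuleCat
import Mathlib.LinearAlgebra.FiniteDimensional.Basic
import Mathlib.Algebra.Algebra.RestrictScalars

/-!
# Finite-dimensional modules over a triangular algebra are compact in the derived category

`R` is a finite-dimensional algebra over a field `k` with elements `e_0, …, e_n` such that `∑ e_j = 1`, `e_j e_j = e_j`,
`e_i R e_j = 0` for `i > j` and `e_j R e_j = k e_j`.
-/

set_option autoImplicit false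

universe w u

open CategoryTheory Limits Pretriangulated DerivedCategory ZeroObject

namespace K353.TriAlg

open Groth.Agent.CohtopA.Compact Groth.Agent.CohtopA.BrownW DModC

section FDlemmas

variable (k : Type u) [Field k] (R : Type u) [Ring R] [Algebra k R]
variable (M : Type u) [AddCommGroup M] [Module R M] {N P : Type u} [AddCommGroup N] [Module R N]
  [AddCommGroup P] [Module R P]

/-- An `R`-module is a `k`-module. -/
abbrev kmod : Module k M := Module.compHom M (algebraMap k R)

/-- Finite dimensionality over `k` of an `R`-module. -/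
def FD : Prop := @Module.Finite k M _ _ (kmod k R M)

lemma fd_iff : FD k R M ↔ Module.Finite k (RestrictScalars k R M) := Iff.rfl

variable {k R M}

/-- A linear map, with scalars restricted to `k`. -/
def rs (f : M →ₗ[R] N) : letI := kmod k R M; letI := kmod k R N; M →ₗ[k] N :=
  letI := kmod k R M; letI := kmod k R N
  { toFun := f
    map_add' := f.map_add
    map_smul' := fun c x => f.map_smul (algebraMap k R c) x }

lemma FD.of_injective (f : M →ₗ[R] N) (hf : Function.Injective f) (h : FD k R N) : FD k R M := by
  let := kmod k R M
  let := kmod k R N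
  have : Module.Finite k N := h
  exact Module.Finite.of_injective (rs (k := k) f) hf

lemma FD.of_surjective (f : M →ₗ[R] N) (hf : Function.Surjective f) (h : FD k R M) : FD k R N := by
  let := kmod k R M
  let := kmod k R N
  have : Module.Finite k M := h
  exact Module.Finite.of_surjective (rs (k := k) f) hf

lemma FD.of_exact (f : M →ₗ[R] N) (g : N →ₗ[R] P) (hfg : Function.Exact f g)
    (h : FD k R M) (h' : FD k R P) : FD k R N := by
  let := kmod k R M
  let := kmod k R N
  let := kmod k R P
  have i1 : Module.Finite k M := h
  have i2 : Module.Finite k P := h'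
  let f' : M →ₗ[k] N := rs f
  let g' : N →ₗ[k] P := rs g
  have h1 : Module.Finite k (LinearMap.range g') := inferInstance
  have h2 : Module.Finite k (LinearMap.ker g') := by
    have : LinearMap.ker g' = LinearMap.range f' := by
      ext x
      exact hfg x
    rw [this]
    infer_instance
  have h3 : Module.Finite k (N ⧸ LinearMap.ker g') :=
    Module.Finite.equiv g'.quotKerEquivRange.symm
  exact Module.Finite.of_submodule_quotient (LinearMap.ker g')

lemma FD.pi {ι : Type} [Finite ι] (h : FD k R M) : FD k R (ι → M) := by
  let := kmod k R M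
  have i1 : Module.Finite k M := h
  exact inferInstanceAs (Module.Finite k (ι → M))

end FDlemmas

section Tri

variable {k : Type u} [Field k] {R : Type u} [Ring R] [Algebra k R] {n : ℕ}

variable (k) in
/-- A complete family of idempotents `e_j` such that `e_i R e_j = 0` for `i > j` and `e_j R e_j = k e_j`. -/
structure TriIdem (e : Fin n → R) : Prop where
  sum_eq : ∑ j, e j = 1
  idem : ∀ j, e j * e j = e j
  low : ∀ i j, j < i → ∀ x, e i * x * e j = 0
  diag : ∀ j x, ∃ c : k, e j * x * e j = algebraMap k R c * e j

variable (e : Fin n → R)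

/-- The left ideal `R e_j`. -/
def colI (j : Fin n) : Submodule R R := LinearMap.range (LinearMap.toSpanSingleton R R (e j))

/-- `e_j M = 0` for `j ≥ m`. -/
def Zr (m : ℕ) (M : Type u) [AddCommGroup M] [Module R M] : Prop :=
  ∀ j : Fin n, m ≤ j → ∀ x : M, e j • x = 0

variable {e} (he : TriIdem k e)

include he

lemma mem_colI {j : Fin n} {x : R} (hx : x ∈ colI e j) : x * e j = x := by
  obtain ⟨y, rfl⟩ := hx
  change y * e j * e j = y * e j
  rw [mul_assoc, he.idem]

lemma projective_colI (j : Fin n) : Module.Projective R (colI e j) := by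
  refine Module.Projective.of_split (colI e j).subtype
    (LinearMap.toSpanSingleton R R (e j)).rangeRestrict ?_
  ext ⟨x, hx⟩
  exact mem_colI he hx

omit he in
lemma finite_colI (j : Fin n) : Module.Finite R (colI e j) :=
  Module.Finite.of_surjective (LinearMap.toSpanSingleton R R (e j)).rangeRestrict
    (LinearMap.surjective_rangeRestrict _)

lemma eq_zero_of_zr {M : Type u} [AddCommGroup M] [Module R M] (h : Zr e 0 M) (x : M) : x = 0 := by
  have : (∑ j, e j) • x = 0 := by
    rw [Finset.sum_smul]
    exact Finset.sum_eq_zero (fun j _ => h j (Nat.zero_le _) x)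
  rwa [he.sum_eq, one_smul] at this

/-- The step of the dévissage. -/
theorem exists_step {m : ℕ} (hm : m < n) (M : Type u) [AddCommGroup M] [Module R M] (hM : FD k R M)
    (hZ : Zr e (m + 1) M) :
    ∃ (r : ℕ) (φ : (Fin r → colI e ⟨m, hm⟩) →ₗ[R] M),
      Zr e m (LinearMap.ker φ) ∧ Zr e m (M ⧸ LinearMap.range φ) := by
  classical
  let := kmod k R M
  have i1 : Module.Finite k M := hM
  let j0 : Fin n := ⟨m, hm⟩
  have hsm : ∀ (c : k) (x : M), c • x = algebraMap k R c • x := fun _ _ => rfl
  let V : Submodule k M :=
    { carrier := {x | e j0 • x = x}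
      add_mem' := fun {x y} hx hy => by
        change e j0 • (x + y) = x + y
        change e j0 • x = x at hx
        change e j0 • y = y at hy
        rw [smul_add, hx, hy]
      zero_mem' := smul_zero _
      smul_mem' := fun c x hx => by
        change e j0 • (c • x) = c • x
        change e j0 • x = x at hx
        rw [hsm, ← mul_smul, ← Algebra.commutes, mul_smul, hx] }
  have hV : ∀ x : V, e j0 • (x : M) = x := fun x => x.2
  let b := Module.finBasis k V
  let r := Module.finrank k V
  let φ : (Fin r → colI e j0) →ₗ[R] M :=
    { toFun := fun y => ∑ s, (y s : R) • (b s : M)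
      map_add' := fun y z => by
        simp [add_smul, Finset.sum_add_distrib]
      map_smul' := fun c y => by
        simp [mul_smul, Finset.smul_sum] }
  have hφ : ∀ y, φ y = ∑ s, (y s : R) • (b s : M) := fun _ => rfl
  refine ⟨r, φ, ?_, ?_⟩
  · rintro j hj ⟨y, hy⟩
    rw [LinearMap.mem_ker] at hy
    apply Subtype.ext
    funext s
    apply Subtype.ext
    change e j * (y s : R) = 0
    rcases Nat.lt_or_ge m j with h | h
    · have h1 : (y s : R) = y s * e j0 := (mem_colI he (y s).2).symm
      rw [h1, ← mul_assoc]
      exact he.low j j0 h _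
    · obtain rfl : j = j0 := Fin.ext (le_antisymm h hj)
      choose c hc using fun s => he.diag j0 (y s : R)
      have hc' : ∀ s, e j0 * (y s : R) = algebraMap k R (c s) * e j0 := fun s => by
        rw [← hc, mul_assoc, mem_colI he (y s).2]
      have h0 : ∑ s, c s • b s = 0 := by
        apply Subtype.ext
        rw [Submodule.coe_sum]
        change ∑ s, c s • (b s : M) = 0
        have h1 : e j0 • φ y = 0 := by rw [hy, smul_zero]
        rw [hφ, Finset.smul_sum] at h1
        rw [← h1]
        refine Finset.sum_congr rfl (fun s _ => ?_)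
        rw [← mul_smul, hc', mul_smul, hV, hsm]
      have h2 := Fintype.linearIndependent_iff.1 b.linearIndependent c h0 s
      rw [hc', h2, map_zero, zero_mul]
  · intro j hj x
    obtain ⟨x, rfl⟩ := Submodule.mkQ_surjective _ x
    rw [← map_smul, Submodule.mkQ_apply, Submodule.Quotient.mk_eq_zero]
    rcases Nat.lt_or_ge m j with h | h
    · rw [hZ j h x]
      exact zero_mem _
    · obtain rfl : j = j0 := Fin.ext (le_antisymm h hj)
      let v : V := ⟨e j0 • x, by
        change e j0 • e j0 • x = e j0 • x
        rw [← mul_smul, he.idem]⟩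
      refine ⟨fun s => ⟨algebraMap k R (b.repr v s) * e j0, ⟨algebraMap k R (b.repr v s), rfl⟩⟩, ?_⟩
      rw [hφ]
      have h1 : (∑ s, b.repr v s • b s : V) = v := b.sum_repr v
      have h2 : ∑ s, b.repr v s • (b s : M) = e j0 • x := by
        have h3 := congrArg (fun w : V => (w : M)) h1
        refine Eq.trans ?_ h3
        exact (Submodule.coe_sum V (fun s => b.repr v s • b s) Finset.univ).symm
      rw [← h2]
      refine Finset.sum_congr rfl (fun s _ => ?_)
      change (algebraMap k R (b.repr v s) * e j0) • (b s : M) = _
      rw [mul_smul, hV, hsm]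

end Tri

end K353.TriAlg
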