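import Groth.Agent.DEquiv.K353.TriAlg
import Groth.Agent.DEquiv.K353.CompactIff
import Groth.Agent.PerfA.BddDev
import Mathlib.CategoryTheory.Abelian.SerreClass.Basic
import Mathlib.LinearAlgebra.DFinsupp

/-!
# Compact objects of the derived category of a triangular algebra
-/

set_option autoImplicit false

universe w u

open CategoryTheory Limits Pretriangulated DerivedCategory ZeroObject

namespace K353.TriCompact

open Groth.Agent Groth.Agent.CohtopA.Compact Groth.Agent.CohtopA.BrownW DModC TriAlg

variable {k : Type u} [Field k] {R : Type u} [Ring R] [Algebra k R] [HasDerivedCategory.{w} (ModuleCat.{u} R)]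

variable (R) in
/-- The compact objects of `D(R)`. -/
def cptW : ObjectProperty (DerivedCategory (ModuleCat.{u} R)) := fun K => IsCompactW.{u} K

instance : (cptW R).IsTriangulated := isTriangulated_isCompactW

instance : (cptW R).IsClosedUnderIsomorphisms where
  of_iso e h := isCompactW_of_iso e h

variable (R) in
/-- The modules which are compact objects of `D(R)`. -/
def CM : ObjectProperty (ModuleCat.{u} R) := fun M => cptW R ((singleFunctor (ModuleCat.{u} R) 0).obj M)

lemma CM.ext₂ {S : ShortComplex (ModuleCat.{u} R)} (hS : S.ShortExact) (h₁ : CM R S.X₁) (h₃ : CM R S.X₃) :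
    CM R S.X₂ :=
  (cptW R).ext_of_isTriangulatedClosed₂ _ hS.singleTriangle_distinguished h₁ h₃

lemma CM.ext₃ {S : ShortComplex (ModuleCat.{u} R)} (hS : S.ShortExact) (h₁ : CM R S.X₁) (h₂ : CM R S.X₂) :
    CM R S.X₃ :=
  (cptW R).ext_of_isTriangulatedClosed₃ _ hS.singleTriangle_distinguished h₁ h₂

lemma CM.projective (P : Type u) [AddCommGroup P] [Module R P] (hf : Module.Finite R P)
    (hp : Module.Projective R P) : CM R (ModuleCat.of R P) :=
  isCompactW_projective (ModuleCat.of R P) 0 hf hp

omit [HasDerivedCategory.{w} (ModuleCat.{u} R)] in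
lemma projective_pi {r : ℕ} (P : Type u) [AddCommGroup P] [Module R P] (hp : Module.Projective R P) :
    Module.Projective R (Fin r → P) :=
  Module.Projective.of_equiv (DFinsupp.linearEquivFunOnFintype (R := R) (M := fun _ : Fin r => P))

variable {n : ℕ} {e : Fin n → R} (he : TriIdem k e)

include he in
/-- Finite-dimensional modules are compact. -/
theorem CM.of_fd (hR : FD k R R) (m : ℕ) (hm : m ≤ n) : ∀ (M : Type u) [AddCommGroup M] [Module R M],
    FD k R M → Zr e m M → CM R (ModuleCat.of R M) := by
  induction m with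
  | zero =>
    intro M _ _ hM hZ
    have : IsZero (ModuleCat.of R M) := by
      rw [IsZero.iff_id_eq_zero]
      ext x
      exact eq_zero_of_zr he hZ x
    exact isCompactW_zero (Functor.map_isZero _ this)
  | succ m ih =>
    intro M _ _ hM hZ
    obtain ⟨r, φ, h1, h2⟩ := exists_step he (m := m) hm M hM hZ
    have i1 := projective_colI he ⟨m, hm⟩
    have i2 := finite_colI (e := e) ⟨m, hm⟩
    have hI : FD k R (colI e ⟨m, hm⟩) := FD.of_injective (colI e ⟨m, hm⟩).subtype
      (Submodule.subtype_injective _) hR
    have hP : CM R (ModuleCat.of R (Fin r → colI e ⟨m, hm⟩)) :=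
      CM.projective _ inferInstance (projective_pi _ i1)
    have hK : CM R (ModuleCat.of R (LinearMap.ker φ)) :=
      ih (by omega) _ (FD.of_injective (LinearMap.ker φ).subtype (Submodule.subtype_injective _) (FD.pi hI)) h1
    have hC : CM R (ModuleCat.of R (M ⧸ LinearMap.range φ)) :=
      ih (by omega) _ (FD.of_surjective (LinearMap.range φ).mkQ (Submodule.mkQ_surjective _) hM) h2
    have hIm : CM R (ModuleCat.of R (LinearMap.range φ)) := by
      let S : ShortComplex (ModuleCat.{u} R) := ShortComplex.mk
        (ModuleCat.ofHom (LinearMap.ker φ).subtype) (ModuleCat.ofHom φ.rangeRestrict) (by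
          apply ModuleCat.hom_ext
          refine LinearMap.ext (fun (x : LinearMap.ker φ) => ?_)
          change φ.rangeRestrict x.1 = 0
          exact Subtype.ext (LinearMap.mem_ker.1 x.2))
      have hS : S.ShortExact := ModuleCat.shortComplex_shortExact S
        (fun x => by
          constructor
          · intro hx
            exact ⟨⟨x, congrArg Subtype.val hx⟩, rfl⟩
          · rintro ⟨y, rfl⟩
            exact Subtype.ext y.2)
        (Submodule.subtype_injective _) (LinearMap.surjective_rangeRestrict φ)
      exact CM.ext₃ hS hK hP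
    let S : ShortComplex (ModuleCat.{u} R) := ShortComplex.mk
        (ModuleCat.ofHom (LinearMap.range φ).subtype) (ModuleCat.ofHom (LinearMap.range φ).mkQ) (by
          ext x
          exact (Submodule.Quotient.mk_eq_zero _).2 x.2)
    have hS : S.ShortExact := ModuleCat.shortComplex_shortExact S
        (fun x => by
          constructor
          · intro hx
            exact ⟨⟨x, (Submodule.Quotient.mk_eq_zero _).1 hx⟩, rfl⟩
          · rintro ⟨y, rfl⟩
            exact (Submodule.Quotient.mk_eq_zero _).2 y.2)
        (Submodule.subtype_injective _) (Submodule.mkQ_surjective _)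
    exact CM.ext₂ hS hIm hC

variable (k R) in
/-- Finite-dimensional modules. -/
def fdP : ObjectProperty (ModuleCat.{u} R) := fun M => FD k R M

instance : ObjectProperty.IsSerreClass (fdP k R) where
  exists_zero := ⟨0, isZero_zero _, by
    have : Subsingleton (0 : ModuleCat.{u} R) := ModuleCat.subsingleton_of_isZero (isZero_zero _)
    let := kmod k R (0 : ModuleCat.{u} R)
    exact inferInstanceAs (Module.Finite k (0 : ModuleCat.{u} R))⟩
  prop_of_mono f _ h := FD.of_injective f.hom ((ModuleCat.mono_iff_injective f).1 inferInstance) h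
  prop_of_epi f _ h := FD.of_surjective f.hom ((ModuleCat.epi_iff_surjective f).1 inferInstance) h
  prop_X₂_of_shortExact {S} hS h₁ h₃ := FD.of_exact S.f.hom S.g.hom
    ((ShortComplex.ShortExact.moduleCat_exact_iff_function_exact _).1 hS.exact) h₁ h₃

variable (k R) in
/-- Objects with finite dimensional cohomology, zero in almost all degrees. -/
def fdD : ObjectProperty (DerivedCategory (ModuleCat.{u} R)) := fun K =>
  (∀ i : ℤ, fdP k R ((homologyFunctor (ModuleCat.{u} R) i).obj K)) ∧
    Set.Finite {i : ℤ | Nontrivial ((homologyFunctor (ModuleCat.{u} R) i).obj K)}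

omit [HasDerivedCategory.{w} (ModuleCat.{u} R)] in
lemma nontrivial_iff (M : ModuleCat.{u} R) : Nontrivial M ↔ ¬ IsZero M := by
  rw [← not_subsingleton_iff_nontrivial, ModuleCat.isZero_iff_subsingleton]

lemma isZero_of_not_mem {K : DerivedCategory (ModuleCat.{u} R)} {i : ℤ}
    (h : i ∉ {i : ℤ | Nontrivial ((homologyFunctor (ModuleCat.{u} R) i).obj K)}) :
    IsZero ((homologyFunctor (ModuleCat.{u} R) i).obj K) := by
  by_contra h'
  exact h ((nontrivial_iff _).2 h')

instance : (fdD k R).IsClosedUnderIsomorphisms where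
  of_iso {K L} e h := by
    refine ⟨fun i => (fdP k R).prop_of_iso ((homologyFunctor _ i).mapIso e) (h.1 i), h.2.subset ?_⟩
    intro i hi
    by_contra h'
    exact (nontrivial_iff _).1 hi ((isZero_of_not_mem h').of_iso ((homologyFunctor _ i).mapIso e).symm)

instance : (fdD k R).IsStableUnderShift ℤ where
  isStableUnderShiftBy n := ⟨fun K h => by
    have e : ∀ i : ℤ, (homologyFunctor (ModuleCat.{u} R) i).obj (K⟦n⟧) ≅
        (homologyFunctor (ModuleCat.{u} R) (n + i)).obj K := fun i =>
      ((homologyFunctor (ModuleCat.{u} R) 0).shiftIso n i (n + i) rfl).app K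
    refine ⟨fun i => (fdP k R).prop_of_iso (e i).symm (h.1 _), ?_⟩
    refine (h.2.preimage (f := fun i => n + i) (fun a _ b _ hab => by simpa using hab)).subset ?_
    intro i hi
    change Nontrivial _
    rw [nontrivial_iff]
    intro h'
    exact (nontrivial_iff _).1 hi (h'.of_iso (e i))⟩

instance : (fdD k R).IsTriangulatedClosed₂ := .mk' (by
  intro T hT h₁ h₃
  refine ⟨(PerfA.CohomIn.coh (fdP k R)).ext_of_isTriangulatedClosed₂ T hT h₁.1 h₃.1, (h₁.2.union h₃.2).subset ?_⟩
  intro i hi
  by_contra h'
  rw [Set.mem_union, not_or] at h'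
  have h1 := isZero_of_not_mem h'.1
  have h3 := isZero_of_not_mem h'.2
  exact (nontrivial_iff _).1 hi ((HomologySequence.exact₂ T hT i).isZero_of_both_zeros
    (h1.eq_of_src _ _) (h3.eq_of_tgt _ _)))

instance : (fdD k R).IsTriangulated where
  exists_zero := ⟨0, isZero_zero _, fun i => (fdP k R).prop_of_isZero (Functor.map_isZero _ (isZero_zero _)), by
    refine Set.finite_empty.subset (fun i hi => ?_)
    exact (nontrivial_iff _).1 hi (Functor.map_isZero _ (isZero_zero _))⟩

instance : (fdD k R).IsStableUnderRetracts where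
  of_retract {K L} r h := by
    refine ⟨fun i => (fdP k R).prop_of_mono ((homologyFunctor _ i).map r.i) (h.1 i), h.2.subset ?_⟩
    intro i hi
    by_contra h'
    refine (nontrivial_iff _).1 hi ?_
    exact (isZero_of_not_mem h').of_mono ((homologyFunctor _ i).map r.i)

variable (R) in
lemma fdD_single (hR : FD k R R) :
    fdD k R ((singleFunctor (ModuleCat.{u} R) 0).obj (ModuleCat.of R R)) := by
  refine ⟨PerfA.CohomIn.coh_single (fdP k R) (ModuleCat.of R R) hR 0, (Set.finite_singleton (0 : ℤ)).subset ?_⟩
  intro i hi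
  by_contra h
  have h0 : i ≠ 0 := h
  refine (nontrivial_iff _).1 hi ?_
  rcases lt_or_gt_of_ne h0 with h | h
  · exact isZero_of_isGE _ 0 i h
  · exact isZero_of_isLE _ 0 i h

/-- Compact objects have finite-dimensional bounded cohomology. -/
theorem fdD_of_isCompactW (hR : FD k R R) (K : DerivedCategory (ModuleCat.{u} R)) (hK : IsCompactW.{u} K) :
    fdD k R K :=
  prop_of_isCompactW (fdD k R) (fdD_single R hR) K hK

include he in
/-- Objects with finite-dimensional bounded cohomology are compact. -/
theorem isCompactW_of_fdD (hR : FD k R R) (K : DerivedCategory (ModuleCat.{u} R)) (hK : fdD k R K) :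
    IsCompactW.{u} K := by
  obtain ⟨h1, h2⟩ := hK
  obtain ⟨a, ha⟩ := h2.bddBelow
  obtain ⟨b, hb⟩ := h2.bddAbove
  have i1 : K.IsGE a := by
    rw [isGE_iff]
    intro i hi
    refine isZero_of_not_mem (fun h => ?_)
    have := ha h
    omega
  have i2 : K.IsLE b := by
    rw [isLE_iff]
    intro i hi
    refine isZero_of_not_mem (fun h => ?_)
    have := hb h
    omega
  refine PerfA.BddDev.devissage (fdP k R) (fun L => cptW R L) (fun e h => (cptW R).prop_of_iso e h)
    (fun M d hM => ?_) (fun T hT h₁ h₃ => (cptW R).ext_of_isTriangulatedClosed₂ T hT h₁ h₃) K a b h1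
  have h3 : cptW R ((singleFunctor (ModuleCat.{u} R) 0).obj M) :=
    CM.of_fd he hR n le_rfl M hM (fun j hj => absurd j.2 (by omega))
  exact (cptW R).prop_of_iso (((singleFunctors (ModuleCat.{u} R)).shiftIso (-d) d 0 (by simp)).app M)
    ((cptW R).le_shift (-d) _ h3)

include he in
theorem isCompactW_iff (hR : FD k R R) (K : DerivedCategory (ModuleCat.{u} R)) :
    IsCompactW.{u} K ↔ fdD k R K :=
  ⟨fdD_of_isCompactW hR K, isCompactW_of_fdD he hR K⟩

end K353.TriCompact
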